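import Groth.Agent.UOFlat.Scheme
import Groth.Agent.GeomRedAt.Open
import Groth.Agent.FlatRed.Basic
import Groth.Agent.Rigid.Stage
import Groth.Agent.ConsEngine.Core
import Groth.Agent.GrpField.FlatPoint

/-!
# Flat morphisms with geometrically reduced fibre over a reduced base
-/

set_option autoImplicit false
set_option linter.style.haveILetI false
set_option backward.isDefEq.respectTransparency false
universe u
open CategoryTheory AlgebraicGeometry Limits TensorProduct

namespace Groth.Agent.UOFlat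
open GeomRedAt (GR RingGR)

variable {X Y : Scheme.{u}}

/-- Reducedness ascends along flat morphisms at points of geometrically reduced fibres, Noetherian base. -/
theorem isReduced_stalk_noetherian [IsLocallyNoetherian Y] (f : X ⟶ Y) [Flat f] [LocallyOfFiniteType f]
    (x : X) [_root_.IsReduced (Y.presheaf.stalk (f x))] (h : GR f x) : _root_.IsReduced (X.presheaf.stalk x) := by
  let U : X.Opens := ⟨_, GeomRedAt.isOpen_setOf_gr_noetherian f⟩
  let u : U := ⟨x, h⟩
  haveI : _root_.IsReduced (Y.presheaf.stalk ((U.ι ≫ f) u)) := ‹_›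
  refine (GeomRedAt.isReduced_stalk_openImmersion_iff U.ι u).mpr
    (FlatRed.isReduced_stalk (U.ι ≫ f) u ‹_› fun y => ?_)
  haveI : ∀ q : ↥((U.ι ≫ f).fiber y), _root_.IsReduced (((U.ι ≫ f).fiber y).presheaf.stalk q) := fun q => by
    exact ((GeomRedAt.gr_source_iff f U.ι _).mpr ((U.ι ≫ f).fiberι y q).2) _ _ q rfl
  exact isReduced_of_isReduced_stalk _

/-- A flat finitely presented algebra over a reduced ring is reduced at primes of geometrically reduced fibre. -/
theorem isReduced_localization_of_ringGR {A E : Type u} [CommRing A] [_root_.IsReduced A] [CommRing E]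
    [Algebra A E] [Algebra.FinitePresentation A E] [Module.Flat A E] (n : Ideal E) [n.IsPrime]
    (h : RingGR A n) : _root_.IsReduced (Localization.AtPrime n) := by
  classical
  refine ⟨fun z hz => ?_⟩
  obtain ⟨e, s, rfl⟩ := IsLocalization.exists_mk'_eq n.primeCompl z
  obtain ⟨m, hm⟩ := hz
  rw [← IsLocalization.mk'_pow, IsLocalization.mk'_eq_zero_iff] at hm
  obtain ⟨t, ht⟩ := hm
  obtain ⟨G, P, hG, hP⟩ := Rigid.exists_stage (A := A) E
  obtain ⟨Pe, hPe⟩ := Rigid.exists_mem_stage E hG e
  obtain ⟨Pt, hPt⟩ := Rigid.exists_mem_stage E hG (t : E)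
  let D : Subalgebra ℤ A := Algebra.adjoin ℤ ((P ∪ Pe ∪ Pt : Finset A) : Set A)
  have hsub : ((P ∪ Pe ∪ Pt : Finset A) : Set A) ⊆ D := Algebra.subset_adjoin
  obtain ⟨hflat, hbij⟩ := hP D fun a ha => hsub (by simp [Finset.mem_coe.mp ha])
  let T := Rigid.stage E D (G : Set E)
  have he : e ∈ T := hPe D fun a ha => hsub (by simp [Finset.mem_coe.mp ha])
  have ht' : (t : E) ∈ T := hPt D fun a ha => hsub (by simp [Finset.mem_coe.mp ha])
  haveI : _root_.IsReduced D := isReduced_of_injective D.val Subtype.val_injective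
  haveI : IsNoetherianRing D := by
    haveI : Algebra.FiniteType ℤ D := (Subalgebra.fg_iff_finiteType _).mp ⟨_, rfl⟩
    exact Algebra.FiniteType.isNoetherianRing ℤ D
  haveI : Algebra.FiniteType D T := (Subalgebra.fg_iff_finiteType _).mp ⟨G, rfl⟩
  haveI : Algebra.IsPushout D A T E := by
    refine ⟨?_⟩
    let l : A ⊗[D] T →ₗ[A] E := LinearMap.liftBaseChange A ((IsScalarTower.toAlgHom D T E).toLinearMap)
    have hl : ∀ w, l w = TensorProduct.lid A E (Rigid.theta A D T.val.toLinearMap A w) := by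
      intro w
      induction w using TensorProduct.induction_on with
      | zero => simp
      | add w w' hw hw' => simp only [map_add, hw, hw']
      | tmul a r => simp [l]
    refine IsBaseChange.of_equiv (LinearEquiv.ofBijective l ?_) fun r =>
      (LinearMap.liftBaseChange_tmul _ _ 1 r).trans (one_smul A _)
    rw [funext hl]
    exact (TensorProduct.lid A E).bijective.comp (hbij A)
  let g := Spec.map (CommRingCat.ofHom (algebraMap D T))
  have hsq : IsPullback (Spec.map (CommRingCat.ofHom (algebraMap T E))) (Spec.map (CommRingCat.ofHom (algebraMap A E)))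
      g (Spec.map (CommRingCat.ofHom (algebraMap D A))) :=
    (isPullback_SpecMap_of_isPushout _ _ _ _ (CommRingCat.isPushout_of_isPushout D A T E)).flip
  let n₀ : PrimeSpectrum T := PrimeSpectrum.comap (algebraMap T E) ⟨n, inferInstance⟩
  have hgr : GR g n₀ :=
    (GeomRedAt.gr_baseChange_iff hsq (⟨n, inferInstance⟩ : PrimeSpectrum E)).mp
      ((GeomRedAt.gr_spec_iff ⟨n, inferInstance⟩).mpr h)
  haveI : Flat g := (HasRingHomProperty.Spec_iff (P := @Flat)).mpr (RingHom.flat_algebraMap_iff.mpr hflat)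
  haveI : LocallyOfFiniteType g :=
    (HasRingHomProperty.Spec_iff (P := @LocallyOfFiniteType)).mpr (RingHom.finiteType_algebraMap.mpr ‹_›)
  haveI : AlgebraicGeometry.IsReduced (Spec (CommRingCat.of D)) := inferInstance
  haveI : _root_.IsReduced (Localization.AtPrime n₀.asIdeal) := by
    have hst := isReduced_stalk_noetherian g n₀ hgr
    exact isReduced_of_injective (Spec.stalkIso (CommRingCat.of T) n₀).commRingCatIsoToRingEquiv.symm.toRingHom
      (Spec.stalkIso (CommRingCat.of T) n₀).commRingCatIsoToRingEquiv.symm.injective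
  have h0 : algebraMap T (Localization.AtPrime n₀.asIdeal) ⟨e, he⟩ = 0 := by
    refine IsReduced.eq_zero _ ⟨m, ?_⟩
    rw [← map_pow, IsLocalization.map_eq_zero_iff n₀.asIdeal.primeCompl]
    exact ⟨⟨⟨t, ht'⟩, t.2⟩, Subtype.ext ht⟩
  obtain ⟨u, hu⟩ := (IsLocalization.map_eq_zero_iff n₀.asIdeal.primeCompl _ _).mp h0
  rw [IsLocalization.mk'_eq_zero_iff]
  exact ⟨⟨(u : T), u.2⟩, congrArg Subtype.val hu⟩

/-- Reducedness ascends along flat lfp morphisms to reduced affine schemes. -/
theorem isReduced_stalk_affine {A : Type u} [CommRing A] [_root_.IsReduced A] (f : X ⟶ Spec (CommRingCat.of A))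
    [Flat f] [LocallyOfFinitePresentation f] (x : X) (h : GR f x) : _root_.IsReduced (X.presheaf.stalk x) := by
  obtain ⟨W, hW, hxW, -⟩ := exists_isAffineOpen_mem_and_subset (show x ∈ (⊤ : X.Opens) from trivial)
  obtain ⟨φ, hφ⟩ := Spec.map_surjective (hW.fromSpec ≫ f)
  let := φ.hom.toAlgebra
  have hf : Spec.map (CommRingCat.ofHom (algebraMap A Γ(X, W))) = hW.fromSpec ≫ f := hφ
  haveI : Module.Flat A Γ(X, W) := RingHom.flat_algebraMap_iff.mp
    ((HasRingHomProperty.Spec_iff (P := @Flat)).mp (show Flat (Spec.map φ) by rw [hφ]; infer_instance))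
  haveI : Algebra.FinitePresentation A Γ(X, W) := RingHom.finitePresentation_algebraMap.mp
    ((HasRingHomProperty.Spec_iff (P := @LocallyOfFinitePresentation)).mp
      (show LocallyOfFinitePresentation (Spec.map φ) by rw [hφ]; infer_instance))
  let n := hW.primeIdealOf ⟨x, hxW⟩
  have hn : hW.fromSpec n = x := hW.fromSpec_primeIdealOf ⟨x, hxW⟩
  have hr : RingGR A n.asIdeal := by
    rw [← GeomRedAt.gr_spec_iff n, hf, GeomRedAt.gr_source_iff]
    exact hn.symm ▸ h
  haveI := isReduced_localization_of_ringGR n.asIdeal hr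
  rw [← hn]
  refine (GeomRedAt.isReduced_stalk_openImmersion_iff hW.fromSpec n).mpr ?_
  exact isReduced_of_injective (Spec.stalkIso Γ(X, W) n).commRingCatIsoToRingEquiv.toRingHom
    (Spec.stalkIso Γ(X, W) n).commRingCatIsoToRingEquiv.injective

/-- **Reducedness ascends along flat morphisms of finite presentation at points of geometrically reduced fibres.** -/
theorem isReduced_stalk (f : X ⟶ Y) [Flat f] [LocallyOfFinitePresentation f] (x : X)
    [_root_.IsReduced (Y.presheaf.stalk (f x))] (h : GR f x) : _root_.IsReduced (X.presheaf.stalk x) := by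
  haveI : Flat (Y.fromSpecStalk (f x)) := GrpField.flat_fromSpecStalk _
  obtain ⟨x', hx', -⟩ := Scheme.Pullback.exists_preimage_pullback (f := f) (g := Y.fromSpecStalk (f x)) x
    (IsLocalRing.closedPoint _) Scheme.fromSpecStalk_closedPoint.symm
  haveI := isReduced_stalk_affine (A := Y.presheaf.stalk (f x)) (pullback.snd f (Y.fromSpecStalk (f x))) x'
    ((GeomRedAt.gr_baseChange_iff (IsPullback.of_hasPullback _ _) x').mpr (hx'.symm ▸ h))
  rw [← hx']
  exact GeomRedAt.isReduced_stalk_of_flat _ x'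

/-- **Flatness and reducedness near a point of a geometrically reduced fibre.** -/
theorem exists_nhd_flat_reduced [IsLocallyNoetherian Y] (f : X ⟶ Y) [LocallyOfFiniteType f] (x : X)
    (U₁ : X.Opens) (hxU : x ∈ U₁) [Flat (U₁.ι ≫ f)] [_root_.IsReduced (Y.presheaf.stalk (f x))] (h : GR f x) :
    ∃ U : X.Opens, x ∈ U ∧ Flat (U.ι ≫ f) ∧ AlgebraicGeometry.IsReduced (U : Scheme.{u}) := by
  haveI : IsLocallyNoetherian X := LocallyOfFiniteType.isLocallyNoetherian f
  haveI : _root_.IsReduced (X.presheaf.stalk x) := by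
    haveI : _root_.IsReduced (Y.presheaf.stalk ((U₁.ι ≫ f) ⟨x, hxU⟩)) := ‹_›
    exact (GeomRedAt.isReduced_stalk_openImmersion_iff U₁.ι ⟨x, hxU⟩).mpr
      (isReduced_stalk_noetherian (U₁.ι ≫ f) ⟨x, hxU⟩ ((GeomRedAt.gr_source_iff f U₁.ι ⟨x, hxU⟩).mpr h))
  obtain ⟨U₂, hxU₂, hU₂⟩ := GrpBasic.exists_isReduced_nhd x
  refine ⟨U₁ ⊓ U₂, ⟨hxU, hxU₂⟩, ?_, isReduced_of_isOpenImmersion (X.homOfLE (inf_le_right : U₁ ⊓ U₂ ≤ U₂))⟩
  rw [← Scheme.homOfLE_ι X (inf_le_left : U₁ ⊓ U₂ ≤ U₁), Category.assoc]
  infer_instance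

end Groth.Agent.UOFlat
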