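import Groth.Agent.UOFlat.Equidim
import Groth.Agent.GoingDown.AtPoint

/-!
# A single universally open component through the generic point of a reduced component of a fibre
-/

set_option autoImplicit false
set_option linter.style.haveILetI false
universe u
open CategoryTheory AlgebraicGeometry Limits

namespace Groth.Agent.UOFlat
open Unibranch
open GeomRedAt (GR)

variable {X Y : Scheme.{u}}

/-- Universal openness of a morphism at a point follows from that of a restriction along a monomorphism. -/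
theorem isUnivOpenAt_of_comp {T : Scheme.{u}} (ι : T ⟶ X) [Mono ι] (f : X ⟶ Y) {w : T}
    (h : EGA43.IsUnivOpenAt (ι ≫ f) w) : EGA43.IsUnivOpenAt f (ι w) := by
  intro Y' g x' hx' N hN
  let j : pullback (ι ≫ f) g ⟶ pullback f g := pullback.map (ι ≫ f) g f g ι (𝟙 _) (𝟙 _) (by simp) (by simp)
  have hjsnd : j ≫ pullback.snd f g = pullback.snd (ι ≫ f) g := by
    rw [pullback.lift_snd, Category.comp_id]
  have hH : IsPullback j (pullback.fst (ι ≫ f) g) (pullback.fst f g) ι :=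
    (IsPullback.of_bot (by rw [hjsnd]; exact IsPullback.of_hasPullback (ι ≫ f) g)
      (by rw [pullback.lift_fst]) (IsPullback.of_hasPullback f g)).flip
  obtain ⟨u, hu, hu'⟩ := Scheme.Pullback.exists_preimage_pullback (f := pullback.fst f g) (g := ι) x' w hx'
  obtain ⟨z, rfl, hzw⟩ : ∃ z, j z = x' ∧ pullback.fst (ι ≫ f) g z = w := ⟨hH.isoPullback.inv u, by
    rw [← Scheme.Hom.comp_apply, hH.isoPullback_inv_fst]; exact hu, by
    rw [← Scheme.Hom.comp_apply, hH.isoPullback_inv_snd]; exact hu'⟩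
  have h1 := h Y' g z hzw _ (j.continuous.continuousAt.preimage_mem_nhds hN)
  rw [show pullback.snd (ι ≫ f) g z = pullback.snd f g (j z) from (congr($hjsnd z)).symm.trans (Scheme.Hom.comp_apply _ _ _)] at h1
  refine Filter.mem_of_superset h1 ?_
  rintro _ ⟨b, hb, rfl⟩
  exact ⟨j b, hb, (Scheme.Hom.comp_apply _ _ _).symm.trans (congr($hjsnd b))⟩

/-- Two closed irreducible sets dominating a point, universally open at the generic point of a reduced component
of a special fibre, coincide. -/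
theorem eq_of_isUnivOpenAt [IsLocallyNoetherian Y] (f : X ⟶ Y) [LocallyOfFiniteType f] {z : X} {η : Y}
    (hη : η ⤳ f z) (hne : f z ≠ η) (hzmax : ∀ z', z' ⤳ z → f z' = f z → z' = z) (hred : GR f z)
    {T₁ T₂ : Scheme.{u}} (ι₁ : T₁ ⟶ X) (ι₂ : T₂ ⟶ X) [IsClosedImmersion ι₁] [IsClosedImmersion ι₂]
    {w₁ : T₁} {w₂ : T₂} (hw₁ : ι₁ w₁ = z) (hw₂ : ι₂ w₂ = z)
    (h₁ : EGA43.IsUnivOpenAt (ι₁ ≫ f) w₁) (h₂ : EGA43.IsUnivOpenAt (ι₂ ≫ f) w₂)
    {ζ₁ ζ₂ : X} (hζ₁ : ∀ t, ζ₁ ⤳ ι₁ t) (hζ₂ : ∀ t, ζ₂ ⤳ ι₂ t) (hfζ₁ : f ζ₁ = η) (hfζ₂ : f ζ₂ = η) :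
    ζ₁ ⤳ ζ₂ ∧ ζ₂ ⤳ ζ₁ := by
  have := LocallyOfFiniteType.isLocallyNoetherian f
  obtain ⟨A, g₀, _, hg₀c, hg₀η⟩ := DvrDom.exists_dvr_through (𝟙 Y) η (f z) (by simpa using hη)
    (by simpa using hne)
  let c : ↥(Spec (CommRingCat.of A)) := IsLocalRing.closedPoint A
  let η' : ↥(Spec (CommRingCat.of A)) := ⟨⊥, Ideal.isPrime_bot⟩
  have hηc : η' ⤳ c := (PrimeSpectrum.le_iff_specializes η' c).mp bot_le
  have hηne : η' ≠ c := fun h ↦ IsDiscreteValuationRing.not_a_field A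
    (congrArg PrimeSpectrum.asIdeal h).symm
  have hη' : g₀.base η' = η := by
    have h1 := congr($hg₀η (default : PrimeSpectrum (Y.residueField η)))
    rw [Scheme.Hom.comp_apply, Scheme.Hom.comp_apply] at h1
    have h2 : Spec.map (CommRingCat.ofHom A.subtype) (default : PrimeSpectrum (Y.residueField η)) = η' := by
      refine PrimeSpectrum.ext ?_
      show Ideal.comap A.subtype _ = ⊥
      rw [show (default : PrimeSpectrum (Y.residueField η)).asIdeal = ⊥ from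
        ((Ideal.eq_bot_or_top _).resolve_right (default : PrimeSpectrum (Y.residueField η)).2.ne_top)]
      exact Ideal.comap_bot_of_injective _ Subtype.val_injective
    rw [h2] at h1
    simpa using h1
  let f' := pullback.snd f g₀
  let a := pullback.fst f g₀
  have hsq : IsPullback a f' f g₀ := IsPullback.of_hasPullback f g₀
  have hcclosed : IsClosed ({c} : Set ↥(Spec (CommRingCat.of A))) := IsLocalRing.isClosed_singleton_closedPoint A
  have : IsLocallyNoetherian (pullback f g₀) := LocallyOfFiniteType.isLocallyNoetherian f'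
  -- a maximal point of the special fibre above `z`
  obtain ⟨b, hba, hbc⟩ := Scheme.Pullback.exists_preimage_pullback (f := f) (g := g₀) z c hg₀c.symm
  obtain ⟨p₀, hp₀⟩ : b ∈ Set.range (f'.fiberι c) := (f'.range_fiberι c).ge hbc
  obtain ⟨p, hp, hpp₀⟩ := exists_isMaxPt_specializes p₀
  have hfp : f' (f'.fiberι c p) = c := (f'.range_fiberι c).le ⟨p, rfl⟩
  have hap : a (f'.fiberι c p) = z := hzmax _ (hba ▸ hp₀ ▸ (hpp₀.map (f'.fiberι c).continuous).map a.continuous) (by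
    rw [← Scheme.Hom.comp_apply, hsq.w, Scheme.Hom.comp_apply, hfp]; exact hg₀c)
  have hfmax : ∀ v, v ⤳ f'.fiberι c p → f' v = c → v = f'.fiberι c p := fun v hv hfv => by
    obtain ⟨q, rfl⟩ : v ∈ Set.range (f'.fiberι c) := (f'.range_fiberι c).ge hfv
    rw [hp q ((f'.fiberι c).isEmbedding.isInducing.specializes_iff.mp hv)]
  have hredp : _root_.IsReduced ((f'.fiber c).presheaf.stalk p) := by
    refine Unibranch.isReduced_stalk_fiber_of_geomReduced hsq c p ?_
    have key : ∀ (b : Y) (q : ↥(f.fiber b)) (x : X), f.fiberι b q = x → GR f x →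
        FBase.IsGeomReducedAt (f.fiberToSpecResidueField b) q := by
      intro b q x hqx h
      obtain rfl : f.base x = b := hqx ▸ (f.range_fiberι b).le ⟨q, rfl⟩
      obtain rfl : q = f.asFiber x := (f.fiberι _).isEmbedding.injective
        (hqx.trans (f.fiberι_asFiber x).symm)
      exact (GeomRedAt.isGeomReducedAt_iff _ _).mpr h
    refine key _ _ z ?_ hred
    rw [← Scheme.Hom.comp_apply, ConsEngine.fiberBC_fiberι, Scheme.Hom.comp_apply]
    exact hap
  -- lifting the generic points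
  have lift : ∀ {T : Scheme.{u}} (ι : T ⟶ X) [IsClosedImmersion ι] (w : T), ι w = z →
      EGA43.IsUnivOpenAt (ι ≫ f) w → ∀ ζ, (∀ t, ζ ⤳ ι t) → f ζ = η →
      ∃ v, v ⤳ f'.fiberι c p ∧ f' v = η' ∧ a v = ζ := by
    intro T ι _ w hw hu ζ hζ hfζ
    let j : pullback (ι ≫ f) g₀ ⟶ pullback f g₀ :=
      pullback.map (ι ≫ f) g₀ f g₀ ι (𝟙 _) (𝟙 _) (by simp) (by simp)
    have hjsnd : j ≫ pullback.snd f g₀ = pullback.snd (ι ≫ f) g₀ := by
      rw [pullback.lift_snd, Category.comp_id]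
    have hH : IsPullback j (pullback.fst (ι ≫ f) g₀) (pullback.fst f g₀) ι :=
      (IsPullback.of_bot (by rw [hjsnd]; exact IsPullback.of_hasPullback (ι ≫ f) g₀)
        (by rw [pullback.lift_fst]) (IsPullback.of_hasPullback f g₀)).flip
    obtain ⟨u, hu₁, hu₂⟩ := Scheme.Pullback.exists_preimage_pullback (f := pullback.fst f g₀) (g := ι)
      (f'.fiberι c p) w (hap.trans hw.symm)
    obtain ⟨q, hjq, hqw⟩ : ∃ q, j q = f'.fiberι c p ∧ pullback.fst (ι ≫ f) g₀ q = w := ⟨hH.isoPullback.inv u, by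
      rw [← Scheme.Hom.comp_apply, hH.isoPullback_inv_fst]; exact hu₁, by
      rw [← Scheme.Hom.comp_apply, hH.isoPullback_inv_snd]; exact hu₂⟩
    have hsndq : ∀ r, pullback.snd (ι ≫ f) g₀ r = f' (j r) := fun r =>
      (congr($hjsnd r)).symm.trans (Scheme.Hom.comp_apply _ _ _)
    obtain ⟨q', hq', hfq'⟩ := Unibranch.exists_specializes_of_isOpenAt (pullback.snd (ι ≫ f) g₀) (hu _ g₀ q hqw)
      (η := η') (by rw [hsndq, hjq, hfp]; exact hηc)
    have hfv : f' (j q') = η' := (hsndq q').symm.trans hfq'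
    have hav : a (j q') = ι (pullback.fst (ι ≫ f) g₀ q') := by
      rw [← Scheme.Hom.comp_apply, hH.w, Scheme.Hom.comp_apply]
    obtain ⟨v, hv, hfv', hav'⟩ := exists_lift_fibre hsq (j q') (q := ζ) (hav ▸ hζ _) (by
      rw [hfζ, ← Scheme.Hom.comp_apply, hsq.w, Scheme.Hom.comp_apply, hfv, hη'])
    exact ⟨v, hv.trans (hjq ▸ hq'.map j.continuous), hfv'.trans hfv, hav'⟩
  obtain ⟨v₁, hv₁, hfv₁, hav₁⟩ := lift ι₁ w₁ hw₁ h₁ ζ₁ hζ₁ hfζ₁
  obtain ⟨v₂, hv₂, hfv₂, hav₂⟩ := lift ι₂ w₂ hw₂ h₂ ζ₂ hζ₂ hfζ₂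
  have huniq : ∀ v, v ⤳ f'.fiberι c p → f' v = η' → ∀ w, w ⤳ f'.fiberι c p → v ⤳ w := fun v hv hfv =>
    Unibranch.exists_unique_generalization f' c p (Unibranch.isPrincipal_maximalIdeal_stalk_Spec A _) hredp
      (specializes_rfl (x := f'.fiberι c p)) hfp (fun u hu hus => (hfmax u hus hu).symm ▸ specializes_rfl) hv
      (hfv.symm ▸ hηne)
  exact ⟨hav₁ ▸ hav₂ ▸ (huniq v₁ hv₁ hfv₁ v₂ hv₂).map a.continuous,
    hav₁ ▸ hav₂ ▸ (huniq v₂ hv₂ hfv₂ v₁ hv₁).map a.continuous⟩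

end Groth.Agent.UOFlat
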