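import Groth.Agent.UOFlat.Local
import Groth.Agent.Unibranch.LiftDim
import Groth.Agent.GrpBasic.ReducedNhd

/-!
# Flatness of universally open morphisms at points of geometrically reduced fibres
-/

set_option autoImplicit false
set_option linter.style.haveILetI false
set_option backward.isDefEq.respectTransparency false
universe u
open CategoryTheory AlgebraicGeometry Limits TensorProduct

namespace Groth.Agent.UOFlat
open GeomRedAt (GR RingGR)

variable {X Y : Scheme.{u}}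

/-- Geometric reducedness of the fibre at a point passes to the generisations in the fibre. -/
theorem gr_of_fibre_specializes (f : X ⟶ Y) [LocallyOfFiniteType f] {x₁ x : X}
    (hs : x₁ ⤳ x) (hf : f x₁ = f x) (h : GR f x) : GR f x₁ := by
  obtain ⟨q₁, hq₁⟩ : x₁ ∈ Set.range (f.fiberι (f x)) := (f.range_fiberι (f x)).ge hf
  obtain ⟨q, hq⟩ : x ∈ Set.range (f.fiberι (f x)) := (f.range_fiberι (f x)).ge rfl
  have hc : IsPullback (f.fiberι (f x)) (f.fiberToSpecResidueField (f x)) f (Y.fromSpecResidueField (f x)) :=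
    IsPullback.of_hasPullback _ _
  haveI : LocallyOfFiniteType (f.fiberToSpecResidueField (f x)) :=
    inferInstanceAs (LocallyOfFiniteType (pullback.snd f (Y.fromSpecResidueField (f x))))
  haveI : Flat (f.fiberToSpecResidueField (f x)) := inferInstance
  subst hq₁
  rw [← GeomRedAt.gr_baseChange_iff hc]
  refine GeomRedAt.gr_of_specializes _
    ((f.fiberι (f x)).isEmbedding.isInducing.specializes_iff.mp (?_ : f.fiberι (f x) q₁ ⤳ f.fiberι (f x) q)) ?_
  · rwa [hq]
  · rw [GeomRedAt.gr_baseChange_iff hc, hq]; exact h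

/-- Generisations provided by universal openness, in an affine chart. -/
theorem exists_le_of_isUnivOpenAt (f : X ⟶ Y) {V : Y.Opens} {W : X.Opens} (hV : IsAffineOpen V)
    (hW : IsAffineOpen W) (hWV : W ≤ f ⁻¹ᵁ V) (P : PrimeSpectrum Γ(X, W))
    (H : EGA43.IsUnivOpenAt f (hW.fromSpec P)) :
    letI := (f.appLE V W hWV).hom.toAlgebra
    ∀ (D : Type u) [CommRing D] [IsDomain D] [Algebra Γ(Y, V) D] (P' : PrimeSpectrum (D ⊗[Γ(Y, V)] Γ(X, W))),
      P'.asIdeal.comap (Algebra.TensorProduct.includeRight : Γ(X, W) →ₐ[Γ(Y, V)] D ⊗[Γ(Y, V)] Γ(X, W)).toRingHom =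
        P.asIdeal →
      ∃ Q', Q'.IsPrime ∧ Q' ≤ P'.asIdeal ∧ Q'.comap (algebraMap D (D ⊗[Γ(Y, V)] Γ(X, W))) = ⊥ := by
  let := (f.appLE V W hWV).hom.toAlgebra
  intro D _ _ _ P' hP'
  let g : Spec (CommRingCat.of D) ⟶ Y :=
    Spec.map (CommRingCat.ofHom (algebraMap Γ(Y, V) D)) ≫ hV.fromSpec
  obtain ⟨j, hj, hjfst, hjsnd, -⟩ := GoingDown.exists_chart (f := f) (g := g) (A := Γ(Y, V))
    (B := Γ(X, W)) (D := D) hW.fromSpec hV.fromSpec (𝟙 _)
    (IsAffineOpen.SpecMap_appLE_fromSpec f hV hW hWV).symm (Category.id_comp _)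
  have hkey : ∀ Q, pullback.snd f g (j Q) = PrimeSpectrum.comap (algebraMap D _) Q := fun Q ↦ by
    rw [← Scheme.Hom.comp_apply, hjsnd, Category.comp_id]
    rfl
  have hjP : pullback.fst f g (j P') = hW.fromSpec P :=
    ((Scheme.Hom.comp_apply _ _ _).symm.trans ((congr($hjfst P')).trans
      (Scheme.Hom.comp_apply _ _ _))).trans (congrArg hW.fromSpec (PrimeSpectrum.ext hP'))
  obtain ⟨q, hq, hq0⟩ := Unibranch.exists_le_of_mem_nhds (R := D) P' (fun s hs ↦ by
    have h1 := H _ g (j P') hjP _ (j.isOpenEmbedding.isOpenMap.image_mem_nhds hs)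
    rw [hkey] at h1
    refine Filter.mem_of_superset h1 ?_
    rintro _ ⟨_, ⟨Q, hQ, rfl⟩, rfl⟩
    exact ⟨Q, hQ, (hkey Q).symm⟩) (⊥ : PrimeSpectrum D) bot_le
  exact ⟨q.asIdeal, q.2, hq, congrArg PrimeSpectrum.asIdeal hq0⟩

/-- **A morphism universally open at the maximal points of a geometrically reduced fibre near a point is flat
there, if the base is reduced at its image.** -/
theorem flat_stalkMap [IsLocallyNoetherian Y] (f : X ⟶ Y) [LocallyOfFiniteType f] (x : X)
    (hopen : ∀ z, z ⤳ x → f z = f x → (∀ z', z' ⤳ z → f z' = f x → z' = z) → EGA43.IsUnivOpenAt f z)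
    (hred : GR f x) [_root_.IsReduced (Y.presheaf.stalk (f x))] : (f.stalkMap x).hom.Flat := by
  obtain ⟨U, hU, hyU, -⟩ := exists_isAffineOpen_mem_and_subset (show f x ∈ (⊤ : Y.Opens) from trivial)
  haveI : IsNoetherianRing Γ(Y, U) := IsLocallyNoetherian.component_noetherian ⟨U, hU⟩
  obtain ⟨s, hys, hsred⟩ : ∃ s : Γ(Y, U), f x ∈ Y.basicOpen s ∧ _root_.IsReduced Γ(Y, Y.basicOpen s) := by
    let p := hU.primeIdealOf ⟨f x, hyU⟩
    let := TopCat.Presheaf.algebra_section_stalk Y.presheaf (⟨f x, hyU⟩ : U)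
    have := hU.isLocalization_stalk ⟨f x, hyU⟩
    have : _root_.IsReduced (Localization.AtPrime p.asIdeal) :=
      isReduced_of_injective _ (IsLocalization.algEquiv p.asIdeal.primeCompl
        (Localization.AtPrime p.asIdeal) (Y.presheaf.stalk (f x))).injective
    obtain ⟨s, hs, hred⟩ := GrpBasic.exists_isReduced_away p.asIdeal
    refine ⟨s, ?_, ?_⟩
    · have : hU.fromSpec p ∈ Y.basicOpen s := by
        rw [← Scheme.Hom.mem_preimage, hU.fromSpec_preimage_basicOpen]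
        exact hs
      rwa [hU.fromSpec_primeIdealOf ⟨f x, hyU⟩] at this
    · have := hU.isLocalization_basicOpen s
      exact isReduced_of_injective _ (IsLocalization.algEquiv (Submonoid.powers s)
        Γ(Y, Y.basicOpen s) (Localization.Away s)).injective
  have hV : IsAffineOpen (Y.basicOpen s) := hU.basicOpen s
  generalize Y.basicOpen s = V at hys hsred hV
  obtain ⟨W, hW, hxW, hWV⟩ := exists_isAffineOpen_mem_and_subset (show x ∈ f ⁻¹ᵁ V from hys)
  haveI : IsNoetherianRing Γ(Y, V) := IsLocallyNoetherian.component_noetherian ⟨V, hV⟩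
  let := (f.appLE V W hWV).hom.toAlgebra
  haveI : Algebra.FiniteType Γ(Y, V) Γ(X, W) := f.finiteType_appLE hV hW hWV
  let n := hW.primeIdealOf ⟨x, hxW⟩
  let p := hV.primeIdealOf ⟨f x, hWV hxW⟩
  have hn : hW.fromSpec n = x := hW.fromSpec_primeIdealOf ⟨x, hxW⟩
  have hp : hV.fromSpec p = f x := hV.fromSpec_primeIdealOf ⟨f x, hWV hxW⟩
  have hfP : ∀ P : PrimeSpectrum Γ(X, W), P.asIdeal.under Γ(Y, V) = p.asIdeal → f (hW.fromSpec P) = f x := by
    intro P hP
    rw [← Unibranch.fromSpec_comap_appLE f hV hW hWV P, ← hp]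
    exact congrArg hV.fromSpec (PrimeSpectrum.ext hP)
  have hspec : ∀ P Q : PrimeSpectrum Γ(X, W), P.asIdeal ≤ Q.asIdeal ↔ hW.fromSpec P ⤳ hW.fromSpec Q :=
    fun P Q ↦ ((PrimeSpectrum.asIdeal_le_asIdeal _ _).trans (PrimeSpectrum.le_iff_specializes _ _)).trans
      hW.fromSpec.isOpenEmbedding.isInducing.specializes_iff.symm
  have tr : ∀ q : PrimeSpectrum Γ(X, W), GR f (hW.fromSpec q) ↔ RingGR Γ(Y, V) q.asIdeal := fun q ↦ by
    rw [← GeomRedAt.gr_source_iff, ← hV.SpecMap_appLE_fromSpec f hW hWV, GeomRedAt.gr_target_iff]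
    exact GeomRedAt.gr_spec_iff q
  refine (RingHom.Flat.respectsIso.arrow_mk_iso_iff
    (IsAffineOpen.arrowStalkMapIso f V hV W hW hWV hxW)).mpr ?_
  refine flat_localRingHom n.asIdeal p.asIdeal
    (congrArg PrimeSpectrum.asIdeal (IsAffineOpen.comap_primeIdealOf_appLE V hV W hW hWV hxW)).symm (fun P hP hPn hPp ↦ ?_) fun P hP hPn hPp hmin ↦ ?_
  · refine (tr ⟨P, hP⟩).mp (gr_of_fibre_specializes f (x := x) ?_ (hfP ⟨P, hP⟩ hPp) hred)
    have := (hspec ⟨P, hP⟩ n).mp hPn
    rwa [hn] at this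
  · refine exists_le_of_isUnivOpenAt f hV hW hWV ⟨P, hP⟩ (hopen _ ?_ (hfP ⟨P, hP⟩ hPp) fun z' hz' hfz' ↦ ?_)
    · have := (hspec ⟨P, hP⟩ n).mp hPn
      rwa [hn] at this
    have hz'W : z' ∈ W := hz'.mem_open W.2 (hW.range_fromSpec.le ⟨_, rfl⟩)
    let Q := hW.primeIdealOf ⟨z', hz'W⟩
    have hQ : hW.fromSpec Q = z' := hW.fromSpec_primeIdealOf ⟨z', hz'W⟩
    rw [← hQ]
    refine congrArg hW.fromSpec (PrimeSpectrum.ext (hmin Q.asIdeal Q.2 ((hspec Q ⟨P, hP⟩).mpr (hQ.symm ▸ hz')) ?_))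
    rw [hPp]
    refine congrArg PrimeSpectrum.asIdeal (show PrimeSpectrum.comap (algebraMap Γ(Y, V) Γ(X, W)) Q = p from ?_)
    apply hV.fromSpec.isOpenEmbedding.injective
    rw [hp, ← hfz', ← hQ]
    exact Unibranch.fromSpec_comap_appLE f hV hW hWV Q

/-- Translation of hypotheses on the maximal points of the fibre through a point. -/
theorem forall_maximal_of_fiber (f : X ⟶ Y) (x : X) {p : X → Prop}
    (h : ∀ z : ↥(f.fiber (f x)), f.asFiber x ∈ closure {z} →
      (∀ z' : ↥(f.fiber (f x)), z ∈ closure {z'} → z' = z) → p (f.fiberι (f x) z)) :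
    ∀ z, z ⤳ x → f z = f x → (∀ z', z' ⤳ z → f z' = f x → z' = z) → p z := by
  intro z hz hfz hmax
  obtain ⟨q, rfl⟩ : z ∈ Set.range (f.fiberι (f x)) := (f.range_fiberι (f x)).ge hfz
  refine h q ?_ fun q' hq' ↦ ?_
  · rw [← specializes_iff_mem_closure, ← (f.fiberι (f x)).isEmbedding.isInducing.specializes_iff, f.fiberι_asFiber]
    exact hz
  · apply (f.fiberι (f x)).isEmbedding.injective
    refine hmax _ ((f.fiberι (f x)).isEmbedding.isInducing.specializes_iff.mpr (specializes_iff_mem_closure.mpr hq')) ?_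
    exact (f.range_fiberι (f x)).le ⟨q', rfl⟩

end Groth.Agent.UOFlat
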