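import Groth.Agent.UOFlat.RedAscent
import Groth.Agent.RedSepLib.Basic
import Groth.Agent.GoingDown.AtPoint
import Groth.Agent.GoingDown.Dedekind
import Groth.Agent.S4963

/-!
# Passing to the reduced base
-/

set_option autoImplicit false
set_option linter.style.haveILetI false
set_option backward.isDefEq.respectTransparency false
universe u
open CategoryTheory AlgebraicGeometry Limits

namespace Groth.Agent.UOFlat
open GeomRedAt (GR)

variable {X Y : Scheme.{u}}

theorem universallyOpen_of_surjective_closedImmersion {Z : Scheme.{u}} (r : Z ⟶ Y) [IsClosedImmersion r]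
    [Surjective r] : UniversallyOpen r := by
  refine ⟨fun X' Y' i₁ i₂ r' H => ?_⟩
  haveI : IsClosedImmersion r' := MorphismProperty.of_isPullback H.flip ‹_›
  haveI : Surjective r' := MorphismProperty.of_isPullback H.flip ‹_›
  exact (isHomeomorph_iff_isEmbedding_surjective.mpr
    ⟨r'.isClosedEmbedding.isEmbedding, r'.surjective⟩).isOpenMap

/-- **Universal openness near a point of a geometrically reduced fibre.** -/
theorem exists_nhd_universallyOpen [IsLocallyNoetherian Y] (f : X ⟶ Y) [LocallyOfFiniteType f] (x : X)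
    (hopen : ∀ z, z ⤳ x → f z = f x → (∀ z', z' ⤳ z → f z' = f x → z' = z) → EGA43.IsUnivOpenAt f z)
    (hred : GR f x) : ∃ U : X.Opens, x ∈ U ∧ UniversallyOpen (U.ι ≫ f) ∧ ∀ z ∈ U, GR f z := by
  let r := Y.nilradical.subschemeι
  haveI : AlgebraicGeometry.IsReduced Y.nilradical.subscheme := RedSepLib.isReduced_subscheme_nilradical Y
  haveI : IsLocallyNoetherian Y.nilradical.subscheme := LocallyOfFiniteType.isLocallyNoetherian r
  haveI : Surjective r := ⟨fun y => by
    have : y ∈ Set.range r := by rw [Scheme.IdealSheafData.range_subschemeι, Scheme.support_nilradical]; trivial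
    exact this⟩
  haveI := universallyOpen_of_surjective_closedImmersion r
  let a := pullback.fst f r
  haveI : IsClosedImmersion a := inferInstance
  haveI : Surjective a := inferInstance
  have hpb : IsPullback a (pullback.snd f r) f r := IsPullback.of_hasPullback f r
  obtain ⟨x', rfl⟩ := a.surjective x
  have hf' : ∀ w w', f (a w) = f (a w') ↔ pullback.snd f r w = pullback.snd f r w' := fun w w' => by
    rw [← Scheme.Hom.comp_apply a f, ← Scheme.Hom.comp_apply a f, hpb.w, Scheme.Hom.comp_apply, Scheme.Hom.comp_apply]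
    exact r.isClosedEmbedding.injective.eq_iff
  have hflat : ((pullback.snd f r).stalkMap x').hom.Flat := by
    refine flat_stalkMap _ x' (fun z hz hfz hmax => ?_) ((GeomRedAt.gr_baseChange_iff hpb x').mpr hred)
    refine GoingDown.isUnivOpenAt_of_isPullback hpb
      (hopen (a z) (hz.map a.continuous) ((hf' z x').mpr hfz) fun z' hz' hfz' => ?_)
    obtain ⟨w, rfl⟩ := a.surjective z'
    rw [hmax w (a.isClosedEmbedding.isInducing.specializes_iff.mp hz') ((hf' w x').mp hfz')]
  haveI := ConsEngine.lfp_of_lft (pullback.snd f r)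
  have hO : IsOpen {w : ↥(pullback f r) | ((pullback.snd f r).stalkMap w).hom.Flat ∧ GR (pullback.snd f r) w} := by
    simpa only [GeomRedAt.isGeomReducedAt_iff] using Groth.Agent.S4963.result (pullback.snd f r)
  obtain ⟨U, hU, hUO⟩ := a.isClosedEmbedding.isInducing.isOpen_iff.mp hO
  refine ⟨⟨U, hU⟩, (Set.ext_iff.mp hUO x').mpr ⟨hflat, (GeomRedAt.gr_baseChange_iff hpb x').mpr hred⟩, ?_, ?_⟩
  · let W : X.Opens := ⟨U, hU⟩
    let j : pullback (W.ι ≫ f) r ⟶ pullback f r :=
      pullback.map (W.ι ≫ f) r f r W.ι (𝟙 _) (𝟙 _) (by simp) (by simp)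
    haveI : IsOpenImmersion j := inferInstance
    haveI : Flat (j ≫ pullback.snd f r) := Flat.of_stalkMap _ fun w => by
      rw [Scheme.Hom.stalkMap_comp]
      refine RingHom.Flat.comp (f := ((pullback.snd f r).stalkMap (j w)).hom) (g := (j.stalkMap w).hom) ?_ (Flat.stalkMap j w)
      refine ((Set.ext_iff.mp hUO (j w)).mp ?_).1
      show a (j w) ∈ U
      rw [← Scheme.Hom.comp_apply, show j ≫ a = pullback.fst _ _ ≫ W.ι from pullback.lift_fst _ _ _,
        Scheme.Hom.comp_apply]
      exact ((pullback.fst (W.ι ≫ f) r) w).2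
    haveI : LocallyOfFinitePresentation (j ≫ pullback.snd f r) := inferInstance
    haveI : UniversallyOpen (j ≫ pullback.snd f r) := UniversallyOpen.of_flat _
    haveI : UniversallyOpen (pullback.fst (W.ι ≫ f) r ≫ (W.ι ≫ f)) := by
      rw [pullback.condition, show pullback.snd (W.ι ≫ f) r = j ≫ pullback.snd f r by
        rw [pullback.lift_snd, Category.comp_id]]
      infer_instance
    exact GoingDown.universallyOpen_of_comp_surjective (pullback.fst (W.ι ≫ f) r) (W.ι ≫ f)
  · intro z hz
    obtain ⟨w, rfl⟩ := a.surjective z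
    exact (GeomRedAt.gr_baseChange_iff hpb w).mp ((Set.ext_iff.mp hUO w).mp hz).2

end Groth.Agent.UOFlat
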