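import Groth.Agent.Unibranch.FibreChains
import Groth.Agent.FlatMor.ReducedDescent

/-!
# Generisations in the fibres lift along base change
-/

set_option autoImplicit false
set_option linter.style.haveILetI false
set_option backward.isDefEq.respectTransparency false
universe u
open CategoryTheory AlgebraicGeometry Limits

namespace Groth.Agent.UOFlat

variable {X Y X' Y' : Scheme.{u}}

/-- Flat morphisms lift generisations. -/
theorem exists_specializes_of_flat (f : X ⟶ Y) [Flat f] {x : X} {y : Y} (hy : y ⤳ f x) :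
    ∃ w, w ⤳ x ∧ f w = y := by
  obtain ⟨V, hV, hxV, -⟩ := exists_isAffineOpen_mem_and_subset (show f x ∈ (⊤ : Y.Opens) from trivial)
  obtain ⟨U, hU, hxU, hUV⟩ := exists_isAffineOpen_mem_and_subset (show x ∈ f ⁻¹ᵁ V from hxV)
  have hyV : y ∈ V := hy.mem_open V.2 hxV
  let := (f.appLE V U hUV).hom.toAlgebra
  haveI : Module.Flat Γ(Y, V) Γ(X, U) := Flat.flat_appLE f hV hU hUV
  let P := hU.primeIdealOf ⟨x, hxU⟩
  have hP : P.asIdeal.under Γ(Y, V) = (hV.primeIdealOf ⟨f x, hxV⟩).asIdeal :=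
    congrArg PrimeSpectrum.asIdeal (IsAffineOpen.comap_primeIdealOf_appLE V hV U hU hUV hxU)
  haveI : P.asIdeal.LiesOver (hV.primeIdealOf ⟨f x, hxV⟩).asIdeal := ⟨hP.symm⟩
  obtain ⟨Q, hQP, hQ, hQover⟩ := Ideal.exists_ideal_le_liesOver_of_le (p := (hV.primeIdealOf ⟨y, hyV⟩).asIdeal)
    (q := (hV.primeIdealOf ⟨f x, hxV⟩).asIdeal) P.asIdeal ((Unibranch.primeIdealOf_le_iff hV _ _).mpr hy)
  refine ⟨hU.fromSpec ⟨Q, hQ⟩, ?_, ?_⟩
  · have := ((PrimeSpectrum.le_iff_specializes (⟨Q, hQ⟩ : PrimeSpectrum _) P).mp hQP).map hU.fromSpec.continuous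
    rwa [hU.fromSpec_primeIdealOf ⟨x, hxU⟩] at this
  · rw [← Unibranch.fromSpec_comap_appLE f hV hU hUV ⟨Q, hQ⟩,
      show PrimeSpectrum.comap (f.appLE V U hUV).hom ⟨Q, hQ⟩ = hV.primeIdealOf ⟨y, hyV⟩ from
        PrimeSpectrum.ext hQover.over.symm]
    exact hV.fromSpec_primeIdealOf ⟨y, hyV⟩

/-- Generisations in a fibre lift along any base change. -/
theorem exists_lift_fibre {f : X ⟶ Y} {f' : X' ⟶ Y'} {a : X' ⟶ X} {g : Y' ⟶ Y} (hpb : IsPullback a f' f g)
    (x' : X') {q : X} (hq : q ⤳ a x') (hfq : f q = f (a x')) :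
    ∃ z, z ⤳ x' ∧ f' z = f' x' ∧ a z = q := by
  let y' := f' x'
  have hy : f (a x') = g y' := by rw [← Scheme.Hom.comp_apply, hpb.w]; rfl
  let m : f'.fiber y' ⟶ f.fiber (g y') := pullback.map f' (Y'.fromSpecResidueField y') f (Y.fromSpecResidueField (g y')) a
    (Spec.map (g.residueFieldMap y')) g hpb.w.symm (by simp)
  have hm : IsPullback m (f'.fiberToSpecResidueField y') (f.fiberToSpecResidueField (g y'))
      (Spec.map (g.residueFieldMap y')) := isPullback_fiberToSpecResidueField_of_isPullback hpb y'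
  haveI : Flat (Spec.map (g.residueFieldMap y')) :=
    (FlatMor.flat_surjective_spec_field_hom (g.residueFieldMap y').hom).1
  haveI : Flat m := MorphismProperty.of_isPullback hm.flip ‹_›
  have hmι : m ≫ f.fiberι (g y') = f'.fiberι y' ≫ a := pullback.lift_fst _ _ _
  obtain ⟨q₀, hq₀⟩ : q ∈ Set.range (f.fiberι (g y')) := (f.range_fiberι _).ge (hfq.trans hy)
  have hspec : q₀ ⤳ m (f'.asFiber x') := by
    rw [← (f.fiberι (g y')).isEmbedding.isInducing.specializes_iff, hq₀, ← Scheme.Hom.comp_apply, hmι,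
      Scheme.Hom.comp_apply, f'.fiberι_asFiber]
    exact hq
  obtain ⟨z₀, hz₀, hz₀q⟩ := exists_specializes_of_flat m hspec
  refine ⟨f'.fiberι y' z₀, ?_, (f'.range_fiberι y').le ⟨z₀, rfl⟩, ?_⟩
  · have := hz₀.map (f'.fiberι y').continuous
    rwa [f'.fiberι_asFiber] at this
  · rw [← Scheme.Hom.comp_apply, ← hmι, Scheme.Hom.comp_apply, hz₀q, hq₀]

end Groth.Agent.UOFlat
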