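import Groth.Agent.Unibranch.UniqueComp
import Groth.Agent.Unibranch.ComponentDim
import Groth.Agent.DvrDom.Scheme
import Groth.Agent.Unibranch.SectionDVR
import Groth.Agent.UOFlat.ReducedBase
import Groth.Agent.UOFlat.GoingFibre
import Groth.Agent.LocalDimBC.Scheme
import Groth.Agent.Unibranch.FibreDims

/-!
# Components through a point over a discrete valuation ring with reduced special fibre
-/

set_option autoImplicit false
set_option linter.style.haveILetI false
universe u
open CategoryTheory AlgebraicGeometry Limits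

namespace Groth.Agent.UOFlat

/-- A nonzero divisor with reduced quotient spans the maximal ideal once that is minimal over it and a
minimal prime. -/
theorem maximalIdeal_le_span_of_isRadical {R : Type u} [CommRing R] [IsNoetherianRing R] [IsLocalRing R] {a : R}
    (ha : ¬ IsUnit a) (hreg : IsSMulRegular R a) (hrad : (Ideal.span {a}).IsRadical) {q : Ideal R}
    (hq : q ∈ minimalPrimes R)
    (h : ∀ P : Ideal R, P.IsPrime → q ≤ P → a ∈ P → IsLocalRing.maximalIdeal R ≤ P) :
    IsLocalRing.maximalIdeal R ≤ Ideal.span {a} := by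
  have hass : q ∈ associatedPrimes R R := by
    refine Module.associatedPrimes.minimalPrimes_annihilator_subset_associatedPrimes R R ?_
    rwa [Module.annihilator_eq_bot.mpr inferInstance]
  obtain ⟨hqp, s, hs⟩ := (isAssociatedPrime_iff).mp hass
  have hsq : ∀ u ∈ q, u * s = 0 := fun u hu => by
    rw [hs, Submodule.mem_colon_singleton] at hu
    simpa using hu
  have hs0 : s ≠ 0 := fun h0 => hqp.ne_top (Ideal.eq_top_iff_one _ |>.mpr (by
    rw [hs, Submodule.mem_colon_singleton, h0]; simp))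
  -- divide out the powers of `a`
  obtain ⟨n, hn⟩ : ∃ n, s ∉ Ideal.span {a} ^ n := by
    by_contra hall
    push Not at hall
    have hbot := Ideal.iInf_pow_eq_bot_of_isLocalRing (Ideal.span {a})
      (by rwa [Ne, Ideal.span_singleton_eq_top])
    exact hs0 (by simpa [hbot] using (Submodule.mem_iInf _).mpr hall)
  classical
  let n₀ := Nat.find (⟨n, hn⟩ : ∃ n, s ∉ Ideal.span {a} ^ n)
  have hn₀ : s ∉ Ideal.span {a} ^ n₀ := Nat.find_spec (⟨n, hn⟩ : ∃ n, s ∉ Ideal.span {a} ^ n)
  obtain ⟨k, hk⟩ : ∃ k, n₀ = k + 1 := ⟨n₀ - 1, (Nat.succ_pred_eq_of_pos (Nat.pos_of_ne_zero fun h0 => hn₀ (by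
    rw [h0, pow_zero, Ideal.one_eq_top]; trivial))).symm⟩
  have hsk : s ∈ Ideal.span {a} ^ k := by
    by_contra hc
    have := Nat.find_min' (⟨n, hn⟩ : ∃ n, s ∉ Ideal.span {a} ^ n) hc
    omega
  rw [Ideal.span_singleton_pow, Ideal.mem_span_singleton'] at hsk
  obtain ⟨s', hs'⟩ := hsk
  have hs'a : s' ∉ Ideal.span {a} := fun hc => hn₀ (by
    rw [hk, pow_succ, ← hs', mul_comm s']
    exact Ideal.mul_mem_mul (Ideal.pow_mem_pow (Ideal.mem_span_singleton_self a) k) hc)
  have hsq' : ∀ u ∈ q, u * s' = 0 := fun u hu => (hreg.pow k) (by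
    show a ^ k • (u * s') = a ^ k • 0
    rw [smul_zero, smul_eq_mul, ← hsq u hu, ← hs']
    ring)
  by_cases hu : IsUnit s'
  · have hq0 : ∀ u ∈ q, u = 0 := fun u hu' => (hu.mul_left_eq_zero).mp (hsq' u hu')
    intro x hx
    rw [← hrad.radical, Ideal.radical_eq_sInf, Ideal.mem_sInf]
    rintro P ⟨hP, hPp⟩
    exact h P hPp (fun u hu' => (hq0 u hu').symm ▸ P.zero_mem) (hP (Ideal.mem_span_singleton_self a)) hx
  · refine absurd (hrad ⟨2, ?_⟩) hs'a
    have key : ∀ x ∈ IsLocalRing.maximalIdeal R, x * s' ∈ Ideal.span {a} := by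
      intro x hx
      have hxr : x ∈ (q ⊔ Ideal.span {a}).radical := by
        rw [Ideal.radical_eq_sInf, Ideal.mem_sInf]
        rintro P ⟨hP, hPp⟩
        exact h P hPp (le_sup_left.trans hP) (hP (Ideal.mem_sup_right (Ideal.mem_span_singleton_self a))) hx
      obtain ⟨N, hN⟩ := hxr
      refine hrad ⟨N + 1, ?_⟩
      obtain ⟨u, hu', v, hv, huv⟩ := Submodule.mem_sup.mp hN
      rw [mul_pow, pow_succ x, pow_succ' s', ← huv, show (u + v) * x * (s' * s' ^ N) =
        (u * s') * (x * s' ^ N) + v * (x * s' * s' ^ N) by ring, hsq' u hu', zero_mul, zero_add]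
      exact Ideal.mul_mem_right _ _ hv
    rw [pow_two]
    exact key s' ((IsLocalRing.mem_maximalIdeal _).mpr hu)

variable {X Y : Scheme.{u}}

/-- Over a valuation point, the components through `x` meet the fibre in components of it. -/
theorem eq_of_specializes_of_dvr [IsLocallyNoetherian X] (f : X ⟶ Y) (y : Y) (p : ↥(f.fiber y))
    [IsDomain (Y.presheaf.stalk (f (f.fiberι y p)))]
    (hprinc : (IsLocalRing.maximalIdeal (Y.presheaf.stalk (f (f.fiberι y p)))).IsPrincipal)
    (hred : _root_.IsReduced ((f.fiber y).presheaf.stalk p)) (hflat : (f.stalkMap (f.fiberι y p)).hom.Flat)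
    {m : X} (hm : m ⤳ f.fiberι y p) (hmmax : Unibranch.IsMaxPt m) (hmy : f m ≠ y)
    (hw : ∀ w, m ⤳ w → w ⤳ f.fiberι y p → f w = y → w = f.fiberι y p) :
    ∀ w, w ⤳ f.fiberι y p → f w = y → w = f.fiberι y p := by
  set x := f.fiberι y p with hx
  have hfx : f x = y := (f.range_fiberι y).le ⟨p, rfl⟩
  obtain ⟨hsurj, hker⟩ := FibCrit.fiberι_stalkMap f y p
  let ψ := (f.stalkMap x).hom
  let I : Ideal (X.presheaf.stalk x) := (IsLocalRing.maximalIdeal (Y.presheaf.stalk (f x))).map ψ
  have hI : I.IsRadical := by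
    show ((IsLocalRing.maximalIdeal _).map _).IsRadical
    rw [← hker]
    intro z hz
    obtain ⟨n, hn⟩ := hz
    rw [RingHom.mem_ker, map_pow] at hn
    exact RingHom.mem_ker.mpr (eq_zero_of_pow_eq_zero hn)
  let j := X.fromSpecStalk x
  have hj : ∀ a : X, a ⤳ x → ∃ P, j P = a := fun a ha ↦ by
    have : a ∈ Set.range j := by rw [Scheme.range_fromSpecStalk]; exact ha
    exact this
  have hjx : ∀ P, j P ⤳ x := fun P => by
    have : j P ∈ Set.range j := ⟨P, rfl⟩
    rwa [Scheme.range_fromSpecStalk] at this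
  have hjle : ∀ P Q, P.asIdeal ≤ Q.asIdeal ↔ j P ⤳ j Q := fun P Q ↦ by
    rw [PrimeSpectrum.asIdeal_le_asIdeal, PrimeSpectrum.le_iff_specializes]
    exact j.isEmbedding.isInducing.specializes_iff.symm
  have hclosed : j (IsLocalRing.closedPoint (X.presheaf.stalk x)) = x := Scheme.fromSpecStalk_closedPoint
  have hover : ∀ P, f (j P) = y ↔ I ≤ P.asIdeal := fun P ↦ by
    have h1 : f (j P) = Y.fromSpecStalk (f x) (PrimeSpectrum.comap ψ P) := by
      rw [← Scheme.Hom.comp_apply, ← Scheme.SpecMap_stalkMap_fromSpecStalk, Scheme.Hom.comp_apply]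
      rfl
    rw [h1]
    constructor
    · intro h
      have h2 := (Y.fromSpecStalk (f x)).isEmbedding.injective
        ((h.trans hfx.symm).trans (Scheme.fromSpecStalk_closedPoint (X := Y) (x := f x)).symm)
      exact Ideal.map_le_iff_le_comap.mpr (congrArg PrimeSpectrum.asIdeal h2).ge
    · intro h
      have h2 : PrimeSpectrum.comap ψ P = IsLocalRing.closedPoint (Y.presheaf.stalk (f x)) :=
        PrimeSpectrum.ext ((IsLocalRing.maximalIdeal.isMaximal _).eq_of_le
          (P.2.comap _).ne_top (Ideal.map_le_iff_le_comap.mp h)).symm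
      rw [h2]
      exact Scheme.fromSpecStalk_closedPoint.trans hfx
  obtain ⟨t, ht⟩ := hprinc
  have hIt : I = Ideal.span {ψ t} := by
    show (IsLocalRing.maximalIdeal _).map ψ = _
    rw [ht, Ideal.submodule_span_eq, Ideal.map_span, Set.image_singleton]
  obtain ⟨Pm, hPm⟩ := hj m hm
  have hmnot : ¬ I ≤ Pm.asIdeal := fun h => hmy (hPm ▸ (hover Pm).mpr h)
  have ht0 : t ≠ 0 := fun h => hmnot (by rw [hIt, h, map_zero, Ideal.span_singleton_le_iff_mem]; exact zero_mem _)
  have hreg : IsSMulRegular (X.presheaf.stalk x) (ψ t) := by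
    letI := ψ.toAlgebra
    haveI : Module.Flat (Y.presheaf.stalk (f x)) (X.presheaf.stalk x) := hflat
    intro u v huv
    refine (Module.Flat.isSMulRegular_of_nonZeroDivisors (R := Y.presheaf.stalk (f x)) (M := X.presheaf.stalk x)
      (mem_nonZeroDivisors_of_ne_zero ht0)) ?_
    show t • u = t • v
    rw [Algebra.smul_def, Algebra.smul_def]
    exact huv
  have hnu : ¬ IsUnit (ψ t) := fun hu => (IsLocalRing.closedPoint (X.presheaf.stalk x)).2.ne_top (by
    have h1 := (hover (IsLocalRing.closedPoint (X.presheaf.stalk x))).mp (by rw [hclosed]; exact hfx)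
    rw [hIt, Ideal.span_singleton_le_iff_mem] at h1
    exact Ideal.eq_top_of_isUnit_mem _ h1 hu)
  have hmin : Pm.asIdeal ∈ minimalPrimes (X.presheaf.stalk x) := by
    refine ⟨⟨Pm.2, bot_le⟩, fun P hP hle => ?_⟩
    have := hmmax (j ⟨P, hP.1⟩) (hPm ▸ (hjle ⟨P, hP.1⟩ Pm).mp hle)
    exact (congrArg PrimeSpectrum.asIdeal (j.isEmbedding.injective (this.trans hPm.symm))).ge
  have hle := maximalIdeal_le_span_of_isRadical hnu hreg (hIt ▸ hI) hmin fun P hP hmP htP => by
    have h1 : j ⟨P, hP⟩ = x := hw _ (hPm ▸ (hjle Pm ⟨P, hP⟩).mp hmP) (hjx _)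
      ((hover ⟨P, hP⟩).mpr (by rw [hIt, Ideal.span_singleton_le_iff_mem]; exact htP))
    exact (congrArg PrimeSpectrum.asIdeal (j.isEmbedding.injective (h1.trans hclosed.symm))).ge
  intro w hwx hwy
  obtain ⟨P, rfl⟩ := hj w hwx
  have h1 : IsLocalRing.maximalIdeal (X.presheaf.stalk x) ≤ P.asIdeal :=
    hle.trans (hIt ▸ (hover P).mp hwy)
  conv_rhs => rw [← hclosed]
  exact congrArg j (PrimeSpectrum.ext ((IsLocalRing.maximalIdeal.isMaximal _).eq_of_le P.2.ne_top h1).symm)

end Groth.Agent.UOFlat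

namespace Groth.Agent.UOFlat
open Unibranch
open GeomRedAt (GR)

variable {X Y : Scheme.{u}}

/-- A morphism universally open on an open subscheme is universally open at its points. -/
theorem isUnivOpenAt_of_opens (f : X ⟶ Y) (U : X.Opens) [UniversallyOpen (U.ι ≫ f)] {a : X} (ha : a ∈ U) :
    EGA43.IsUnivOpenAt f a := by
  intro Y' g x' hx' N hN
  let j : pullback (U.ι ≫ f) g ⟶ pullback f g :=
    pullback.map (U.ι ≫ f) g f g U.ι (𝟙 _) (𝟙 _) (by simp) (by simp)
  have hjsnd : j ≫ pullback.snd f g = pullback.snd (U.ι ≫ f) g := by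
    rw [pullback.lift_snd, Category.comp_id]
  have hH : IsPullback j (pullback.fst (U.ι ≫ f) g) (pullback.fst f g) U.ι :=
    (IsPullback.of_bot (by rw [hjsnd]; exact IsPullback.of_hasPullback (U.ι ≫ f) g)
      (by rw [pullback.lift_fst]) (IsPullback.of_hasPullback f g)).flip
  obtain ⟨w, hw, -⟩ := Scheme.Pullback.exists_preimage_pullback (f := pullback.fst f g) (g := U.ι) x' ⟨a, ha⟩ hx'
  obtain ⟨z, rfl⟩ : ∃ z, j z = x' := ⟨hH.isoPullback.inv w, by
    rw [← Scheme.Hom.comp_apply, hH.isoPullback_inv_fst]; exact hw⟩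
  have h1 := (pullback.snd (U.ι ≫ f) g).isOpenMap.image_mem_nhds (j.continuous.continuousAt.preimage_mem_nhds hN)
  rw [← hjsnd, Scheme.Hom.comp_apply] at h1
  refine Filter.mem_of_superset h1 ?_
  rintro _ ⟨b, hb, rfl⟩
  exact ⟨j b, hb, (Scheme.Hom.comp_apply _ _ _).symm⟩

/-- A maximal point specialising to a point of a reduced equidimensional fibre has a generic fibre of the
same dimension. -/
theorem hasChain_generic [IsLocallyNoetherian Y] (f : X ⟶ Y) [LocallyOfFiniteType f] {x : X} {e : ℕ} (U : X.Opens)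
    (hxU : x ∈ U) [UniversallyOpen (U.ι ≫ f)] (hred : GR f x)
    (hfe : ∀ z, z ⤳ x → f z = f x → (∀ z', z' ⤳ z → f z' = f x → z' = z) → HasChain f (closure {z}) (f x) e)
    {ζ : X} (hζm : IsMaxPt ζ) (hζx : ζ ⤳ x) : HasChain f (closure {ζ}) (f ζ) e := by
  have := LocallyOfFiniteType.isLocallyNoetherian f
  by_cases hne : f x = f ζ
  · rw [← hne]
    exact hfe ζ hζx hne.symm fun z' hz' _ => hζm z' hz'
  obtain ⟨A, g₁, _, hg₁c, hg₁η⟩ := DvrDom.exists_dvr_through (𝟙 X) ζ x (by simpa using hζx)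
    (by
      intro h
      have h' : x = ζ := by simpa using h
      exact hne (h' ▸ rfl))
  let c : ↥(Spec (CommRingCat.of A)) := IsLocalRing.closedPoint A
  let η : ↥(Spec (CommRingCat.of A)) := ⟨⊥, Ideal.isPrime_bot⟩
  have hηc : η ⤳ c := (PrimeSpectrum.le_iff_specializes η c).mp bot_le
  have hηne : η ≠ c := fun h ↦ IsDiscreteValuationRing.not_a_field A
    (congrArg PrimeSpectrum.asIdeal h).symm
  have hmax : ∀ t : ↥(Spec (CommRingCat.of A)), t ≠ c → t = η := fun t ht ↦ by
    by_contra h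
    have : t.asIdeal.IsMaximal := t.2.isMaximal fun hb ↦ h (PrimeSpectrum.ext hb)
    exact ht (PrimeSpectrum.ext (IsLocalRing.eq_maximalIdeal this))
  have hη' : g₁.base η = ζ := by
    have h1 := congr($hg₁η (default : PrimeSpectrum (X.residueField ζ)))
    rw [Scheme.Hom.comp_apply, Scheme.Hom.comp_apply] at h1
    have h2 : Spec.map (CommRingCat.ofHom A.subtype) (default : PrimeSpectrum (X.residueField ζ)) = η := by
      refine PrimeSpectrum.ext ?_
      show Ideal.comap A.subtype _ = ⊥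
      rw [show (default : PrimeSpectrum (X.residueField ζ)).asIdeal = ⊥ from
        ((Ideal.eq_bot_or_top _).resolve_right (default : PrimeSpectrum (X.residueField ζ)).2.ne_top)]
      exact Ideal.comap_bot_of_injective _ Subtype.val_injective
    rw [h2] at h1
    simpa using h1
  let g₀ := g₁ ≫ f
  let f' := pullback.snd f g₀
  let a := pullback.fst f g₀
  have hsq : IsPullback a f' f g₀ := IsPullback.of_hasPullback f g₀
  have hfa : ∀ z, f (a z) = g₀ (f' z) := fun z => by
    rw [← Scheme.Hom.comp_apply, hsq.w, Scheme.Hom.comp_apply]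
  let l : Spec (CommRingCat.of A) ⟶ pullback f g₀ := pullback.lift g₁ (𝟙 _) (by rw [Category.id_comp])
  have hlf : ∀ t, f' (l t) = t := fun t ↦ by
    have : (l ≫ f') t = t := by rw [show l ≫ f' = 𝟙 _ from pullback.lift_snd _ _ _]; rfl
    exact this
  have hel : ∀ t, a (l t) = g₁ t := fun t ↦ by
    show (l ≫ a) t = _
    rw [show l ≫ a = g₁ from pullback.lift_fst _ _ _]
  have halc : a (l c) = x := (hel c).trans hg₁c
  have hcclosed : IsClosed ({c} : Set ↥(Spec (CommRingCat.of A))) := IsLocalRing.isClosed_singleton_closedPoint A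
  obtain ⟨m, hm, hml⟩ := exists_isMaxPt_specializes (l η)
  have hηgen : ∀ t, t ⤳ η → t = η := fun t ht => hmax t fun h => hηne
    ((show c ⤳ η by subst h; exact ht).mem_closed hcclosed rfl)
  have hfm : f' m = η := hηgen _ (hlf η ▸ hml.map f'.continuous)
  have ham : a m = ζ := hζm _ (by have h := hml.map a.continuous; rwa [hel η, show g₁ η = ζ from hη'] at h)
  have hmc : m ⤳ l c := hml.trans (hηc.map l.continuous)
  -- a point of the closure of `m` maximal in the special fibre
  let Z : TopologicalSpace.Closeds ↥(pullback f g₀) :=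
    ⟨closure {m} ∩ f' ⁻¹' {c}, isClosed_closure.inter (hcclosed.preimage f'.continuous)⟩
  let ι := (Scheme.IdealSheafData.vanishingIdeal Z).subschemeι
  have hZrange : Set.range ι = (Z : Set ↥(pullback f g₀)) := by
    rw [Scheme.IdealSheafData.range_subschemeι, Scheme.IdealSheafData.coe_support_vanishingIdeal]
  obtain ⟨b, hb⟩ : l c ∈ Set.range ι := hZrange.ge ⟨hmc.mem_closure, hlf c⟩
  obtain ⟨w₀, hw₀, hw₀b⟩ := exists_isMaxPt_specializes b
  obtain ⟨hmw, hfw⟩ : ι w₀ ∈ (Z : Set ↥(pullback f g₀)) := hZrange.le ⟨w₀, rfl⟩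
  have hwlc : ι w₀ ⤳ l c := hb ▸ hw₀b.map ι.continuous
  have hwmax : ∀ v, m ⤳ v → v ⤳ ι w₀ → f' v = c → v = ι w₀ := fun v hmv hvw hfv => by
    obtain ⟨v', rfl⟩ : v ∈ Set.range ι := hZrange.ge ⟨hmv.mem_closure, hfv⟩
    rw [hw₀ v' (ι.isEmbedding.isInducing.specializes_iff.mp hvw)]
  have hawx : a (ι w₀) ⤳ x := halc ▸ hwlc.map a.continuous
  have hfaw : f (a (ι w₀)) = f x := by
    rw [hfa, show f' (ι w₀) = c from hfw, ← hlf c, ← hfa, halc]
  have hawU : a (ι w₀) ∈ U := hawx.mem_open U.2 hxU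
  have hredw : GR f' (ι w₀) := (GeomRedAt.gr_baseChange_iff hsq _).mpr (gr_of_fibre_specializes f hawx hfaw hred)
  haveI : IsLocallyNoetherian (pullback f g₀) := LocallyOfFiniteType.isLocallyNoetherian f'
  have hflat : (f'.stalkMap (ι w₀)).hom.Flat := flat_stalkMap f' _ (fun v hv _ _ =>
    GoingDown.isUnivOpenAt_of_isPullback hsq (isUnivOpenAt_of_opens f U ((hv.map a.continuous).mem_open U.2 hawU))) hredw
  obtain ⟨p, hp⟩ : ι w₀ ∈ Set.range (f'.fiberι c) := (f'.range_fiberι c).ge hfw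
  have hredp : _root_.IsReduced ((f'.fiber c).presheaf.stalk p) := by
    refine Unibranch.isReduced_stalk_fiber_of_geomReduced hsq c p ?_
    have key : ∀ (b : Y) (q : ↥(f.fiber b)) (x : X), f.fiberι b q = x → GR f x →
        FBase.IsGeomReducedAt (f.fiberToSpecResidueField b) q := by
      intro b q x hqx h
      obtain rfl : f.base x = b := hqx ▸ (f.range_fiberι b).le ⟨q, rfl⟩
      obtain rfl : q = f.asFiber x := (f.fiberι _).isEmbedding.injective
        (hqx.trans (f.fiberι_asFiber x).symm)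
      exact (GeomRedAt.isGeomReducedAt_iff _ _).mpr h
    refine key _ _ (a (ι w₀)) ?_ (gr_of_fibre_specializes f hawx hfaw hred)
    rw [← Scheme.Hom.comp_apply, ConsEngine.fiberBC_fiberι, Scheme.Hom.comp_apply, hp]
  rw [← hp] at hmw hwmax hflat hawx hfaw hfw
  haveI : IsDomain ((Spec (CommRingCat.of A)).presheaf.stalk (f' (f'.fiberι c p))) := inferInstance
  have hfmax := eq_of_specializes_of_dvr f' c p (Unibranch.isPrincipal_maximalIdeal_stalk_Spec A _) hredp hflat
    (specializes_iff_mem_closure.mpr hmw) hm (hfm ▸ hηne) hwmax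
  -- the image is maximal in its fibre
  have hamax : ∀ z', z' ⤳ a (f'.fiberι c p) → f z' = f x → z' = a (f'.fiberι c p) := fun z' hz' hfz' => by
    obtain ⟨v, hv, hfv, rfl⟩ := exists_lift_fibre hsq (f'.fiberι c p) hz' (hfz'.trans hfaw.symm)
    rw [hfmax v hv (hfv.trans hfw)]
  have hch₀ := hfe _ hawx hfaw hamax
  rw [← hfaw] at hch₀
  have hle₀ : (e : WithBot ℕ∞) ≤ FlatMor.fibreDimAt f (a (f'.fiberι c p)) :=
    (natCast_le_fibreDimAt_iff f _).mpr fun O hO =>
      (hch₀.of_specializes specializes_rfl hO).mono Set.inter_subset_left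
  rw [← LocalDimBC.fibreDimAt_of_isPullback f g₀ a f' hsq] at hle₀
  have hch₁ := hasChain_closure_of_maximal f' (f'.fiberι c p)
    (fun v hfv hv => hfmax v (specializes_iff_mem_closure.mpr hv) (hfv.trans hfw)) hle₀
  -- lift to the generic fibre
  have hmw' : m ⤳ f'.fiberι c p := specializes_iff_mem_closure.mpr hmw
  have huniq := Unibranch.exists_unique_generalization f' c p (Unibranch.isPrincipal_maximalIdeal_stalk_Spec A _) hredp
    (specializes_rfl (x := f'.fiberι c p)) hfw (fun v hv hvs => (hfmax v hvs hv).symm ▸ specializes_rfl) hmw'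
    (hfm ▸ hηne)
  obtain ⟨ζ', hζ', hfζ', hch'⟩ := exists_hasChain_of_lifts' f' (z := f'.fiberι c p) (η := η)
    (show η ⤳ f' (f'.fiberι c p) by rw [show f' (f'.fiberι c p) = c from hfw]; exact hηc) fun η' _ hη'c => by
      rw [show f' (f'.fiberι c p) = c from hfw] at hη'c
      by_cases h : η' = c
      · exact ⟨f'.fiberι c p, specializes_rfl, (show f' (f'.fiberι c p) = c from hfw).trans h.symm⟩
      · exact ⟨m, hmw', hfm.trans (hmax η' h).symm⟩
  have hch₂ : HasChain f' (closure {m}) (f' m) e := by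
    rw [hfm]
    exact (hch' e hch₁).mono (closure_minimal
      (Set.singleton_subset_iff.mpr (huniq ζ' hζ').mem_closure) isClosed_closure)
  have hle₁ : (e : WithBot ℕ∞) ≤ FlatMor.fibreDimAt f' m :=
    (natCast_le_fibreDimAt_iff f' _).mpr fun O hO =>
      (hch₂.of_specializes specializes_rfl hO).mono Set.inter_subset_left
  rw [LocalDimBC.fibreDimAt_of_isPullback f g₀ a f' hsq, ham] at hle₁
  exact hasChain_closure_of_maximal f ζ (fun v _ hv => hζm v (specializes_iff_mem_closure.mpr hv)) hle₁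

end Groth.Agent.UOFlat
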