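import Groth.Agent.UOFlat.Descend
import Groth.Agent.UOFlat.Scheme

/-!
# Flatness of universally open morphisms of finite presentation over reduced schemes
-/

set_option autoImplicit false
set_option linter.style.haveILetI false
set_option backward.isDefEq.respectTransparency false
universe u
open CategoryTheory AlgebraicGeometry Limits TensorProduct

namespace Groth.Agent.UOFlat
open GeomRedAt (GR RingGR)

variable {X Y : Scheme.{u}}

/-- A local homomorphism is flat if the local ring of the source is flat over the base ring. -/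
theorem flat_localRingHom_of_flat {A B : Type u} [CommRing A] [CommRing B] [Algebra A B] (n : Ideal B) [n.IsPrime]
    (p : Ideal A) [p.IsPrime] (hp : p = n.comap (algebraMap A B)) (h : Module.Flat A (Localization.AtPrime n)) :
    (Localization.localRingHom p n (algebraMap A B) hp).Flat := by
  letI := (Localization.localRingHom p n (algebraMap A B) hp).toAlgebra
  haveI : IsScalarTower A (Localization.AtPrime p) (Localization.AtPrime n) :=
    IsScalarTower.of_algebraMap_eq fun x => by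
      rw [RingHom.algebraMap_toAlgebra, Localization.localRingHom_to_map, ← IsScalarTower.algebraMap_apply]
  exact (Module.flat_iff_of_isLocalization (Localization.AtPrime p) p.primeCompl (Localization.AtPrime n)).mpr h

/-- **A morphism locally of finite presentation to a reduced scheme, universally open at the maximal points of
a geometrically reduced fibre near a point, is flat there.** -/
theorem flat_stalkMap_lfp [AlgebraicGeometry.IsReduced Y] (f : X ⟶ Y) [LocallyOfFinitePresentation f] (x : X)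
    (hopen : ∀ z, z ⤳ x → f z = f x → (∀ z', z' ⤳ z → f z' = f x → z' = z) → EGA43.IsUnivOpenAt f z)
    (hred : GR f x) : (f.stalkMap x).hom.Flat := by
  obtain ⟨V, W, hV, hW, hxW, hWV, -⟩ := Unibranch.exists_chart_le f (U := ⊤) (x := x) trivial
  let := (f.appLE V W hWV).hom.toAlgebra
  haveI : Algebra.FinitePresentation Γ(Y, V) Γ(X, W) :=
    HasRingHomProperty.appLE @LocallyOfFinitePresentation f ‹_› ⟨V, hV⟩ ⟨W, hW⟩ hWV
  let n := hW.primeIdealOf ⟨x, hxW⟩
  let p := hV.primeIdealOf ⟨f x, hWV hxW⟩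
  have hnp : n.asIdeal.under Γ(Y, V) = p.asIdeal :=
    congrArg PrimeSpectrum.asIdeal (IsAffineOpen.comap_primeIdealOf_appLE V hV W hW hWV hxW)
  have hn : hW.fromSpec n = x := hW.fromSpec_primeIdealOf ⟨x, hxW⟩
  have hp : hV.fromSpec p = f x := hV.fromSpec_primeIdealOf ⟨f x, hWV hxW⟩
  have hfP : ∀ P : PrimeSpectrum Γ(X, W), P.asIdeal.under Γ(Y, V) = p.asIdeal → f (hW.fromSpec P) = f x := by
    intro P hP
    rw [← Unibranch.fromSpec_comap_appLE f hV hW hWV P, ← hp]
    exact congrArg hV.fromSpec (PrimeSpectrum.ext hP)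
  have hspec : ∀ P Q : PrimeSpectrum Γ(X, W), P.asIdeal ≤ Q.asIdeal ↔ hW.fromSpec P ⤳ hW.fromSpec Q :=
    fun P Q ↦ ((PrimeSpectrum.asIdeal_le_asIdeal _ _).trans (PrimeSpectrum.le_iff_specializes _ _)).trans
      hW.fromSpec.isOpenEmbedding.isInducing.specializes_iff.symm
  have tr : ∀ q : PrimeSpectrum Γ(X, W), GR f (hW.fromSpec q) ↔ RingGR Γ(Y, V) q.asIdeal := fun q ↦ by
    rw [← GeomRedAt.gr_source_iff, ← hV.SpecMap_appLE_fromSpec f hW hWV, GeomRedAt.gr_target_iff]
    exact GeomRedAt.gr_spec_iff q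
  refine (RingHom.Flat.respectsIso.arrow_mk_iso_iff
    (IsAffineOpen.arrowStalkMapIso f V hV W hW hWV hxW)).mpr ?_
  refine flat_localRingHom_of_flat n.asIdeal p.asIdeal hnp.symm
    (flat_atPrime_of_minimal n.asIdeal ((tr n).mp (by rw [hn]; exact hred)) fun P hP hPn hPp hmin ↦ ?_)
  rw [hnp] at hPp
  have hPs : hW.fromSpec ⟨P, hP⟩ ⤳ x := by
    have := (hspec ⟨P, hP⟩ n).mp hPn
    rwa [hn] at this
  refine flat_atPrime_of_ringGR P ((tr ⟨P, hP⟩).mp
    (gr_of_fibre_specializes f (x := x) hPs (hfP ⟨P, hP⟩ hPp) hred)) hmin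
    (exists_le_of_isUnivOpenAt f hV hW hWV ⟨P, hP⟩ (hopen _ hPs (hfP ⟨P, hP⟩ hPp) fun z' hz' hfz' ↦ ?_))
  have hz'W : z' ∈ W := hz'.mem_open W.2 (hW.range_fromSpec.le ⟨_, rfl⟩)
  let Q := hW.primeIdealOf ⟨z', hz'W⟩
  have hQ : hW.fromSpec Q = z' := hW.fromSpec_primeIdealOf ⟨z', hz'W⟩
  rw [← hQ]
  refine congrArg hW.fromSpec (PrimeSpectrum.ext (hmin Q.asIdeal Q.2 ((hspec Q ⟨P, hP⟩).mpr (hQ.symm ▸ hz')) ?_))
  rw [hPp]
  refine congrArg PrimeSpectrum.asIdeal (show PrimeSpectrum.comap (algebraMap Γ(Y, V) Γ(X, W)) Q = p from ?_)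
  apply hV.fromSpec.isOpenEmbedding.injective
  rw [hp, ← hfz', ← hQ]
  exact Unibranch.fromSpec_comap_appLE f hV hW hWV Q

end Groth.Agent.UOFlat
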