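import Groth.Agent.Unibranch.SectionBaseChange
import Groth.Agent.GrpDim.UnivOpen
import Groth.Agent.UOFlat.Scheme
import Groth.Agent.ConsEngine.Core

/-!
# Universal openness along the components of a section of constant dimension
-/

set_option autoImplicit false
set_option linter.style.haveILetI false
set_option backward.isDefEq.respectTransparency false
universe u
open CategoryTheory AlgebraicGeometry Limits

namespace Groth.Agent.UOFlat

variable {X Y : Scheme.{u}}

/-- Generisations lift along components of a section of equal dimension. -/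
theorem exists_generic_specializes_of_component_dim (f : X ⟶ Y) [LocallyOfFiniteType f] (g : Y ⟶ X) (hg : g ≫ f = 𝟙 Y)
    {y y' : Y} (hy : y' ⤳ y)
    (hirr : IsIrreducible (connectedComponentIn (f.base ⁻¹' {y}) (g.base y)))
    (hirr' : IsIrreducible (connectedComponentIn (f.base ⁻¹' {y'}) (g.base y')))
    (hdim : topologicalKrullDim ↥(connectedComponentIn (f.base ⁻¹' {y}) (g.base y)) =
      topologicalKrullDim ↥(connectedComponentIn (f.base ⁻¹' {y'}) (g.base y'))) :
    ∃ ζ ∈ connectedComponentIn (f.base ⁻¹' {y'}) (g.base y'), f ζ = y' ∧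
      ∀ z ∈ connectedComponentIn (f.base ⁻¹' {y}) (g.base y), ζ ⤳ z := by
  have hgf : ∀ w, f.base (g.base w) = w := fun w => by
    have : (g ≫ f).base w = w := by rw [hg]; rfl
    exact this
  obtain ⟨ζ, hζC, hζy, -, hCeq', d, hCd, -, hd, -⟩ :=
    Unibranch.exists_genericPoint_connectedComponent f (hgf y') hirr'
  have hζg : ζ ⤳ g.base y' := specializes_iff_mem_closure.mpr
    (hCeq'.le (mem_connectedComponentIn (show g.base y' ∈ f.base ⁻¹' {y'} from hgf y'))).1
  have hζy0 : ζ ⤳ g.base y := hζg.trans (hy.map g.continuous)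
  have hchain := Unibranch.exists_hasChain_closure_component f hζy0
    (show Unibranch.HasChain f (closure {ζ}) (f ζ) d by rw [show f ζ = y' from hζy]; exact hd)
  rw [show f (g.base y) = y from hgf y] at hchain
  obtain ⟨c, hc, hch⟩ := hchain
  obtain ⟨ξ, -, hξy, -, hCeq, e, hCe, he₁, -, -⟩ :=
    Unibranch.exists_genericPoint_connectedComponent f (hgf y) hirr
  have hed : e = d := by
    have := hCe.symm.trans (hdim.trans hCd)
    exact_mod_cast this
  subst hed
  have hξc : ξ ⤳ c 0 := specializes_iff_mem_closure.mpr (hCeq.le (hc 0).1.2).1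
  have hc0 : c 0 = ξ := by
    by_contra hne
    have := he₁ (e + 1) (Fin.cons ξ c) (fun i ↦ ?_) (fun i ↦ ?_)
    · omega
    · refine Fin.cases ⟨subset_closure rfl, hξy⟩ (fun j ↦ ?_) i
      rw [Fin.cons_succ]
      exact ⟨(hCeq.le (hc j).1.2).1, (hc j).2⟩
    · refine Fin.cases ?_ (fun j ↦ ?_) i
      · rw [Fin.castSucc_zero, Fin.cons_zero, Fin.cons_succ]
        exact ⟨hξc, Ne.symm hne⟩
      · rw [← Fin.succ_castSucc, Fin.cons_succ, Fin.cons_succ]
        exact hch j
  refine ⟨ζ, hζC, hζy, fun z hz => ?_⟩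
  exact (specializes_iff_mem_closure.mpr (hc0 ▸ (hc 0).1.1 : ξ ∈ closure ({ζ} : Set X))).trans
    (specializes_iff_mem_closure.mpr (hCeq.le hz).1)

/-- Generisations lift along components of a section of equal dimension. -/
theorem exists_specializes_of_component_dim (f : X ⟶ Y) [LocallyOfFiniteType f] (g : Y ⟶ X) (hg : g ≫ f = 𝟙 Y)
    {y y' : Y} (hy : y' ⤳ y)
    (hirr : IsIrreducible (connectedComponentIn (f.base ⁻¹' {y}) (g.base y)))
    (hirr' : IsIrreducible (connectedComponentIn (f.base ⁻¹' {y'}) (g.base y')))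
    (hdim : topologicalKrullDim ↥(connectedComponentIn (f.base ⁻¹' {y}) (g.base y)) =
      topologicalKrullDim ↥(connectedComponentIn (f.base ⁻¹' {y'}) (g.base y'))) :
    ∀ z ∈ connectedComponentIn (f.base ⁻¹' {y}) (g.base y), ∃ ζ, ζ ⤳ z ∧ f ζ = y' := fun z hz =>
  let ⟨ζ, _, hζy, h⟩ := exists_generic_specializes_of_component_dim f g hg hy hirr hirr' hdim
  ⟨ζ, h z hz, hζy⟩

/-- **Constant dimension of the components of a section gives universal openness along them.** -/
theorem isUnivOpenAt_of_component_dim (f : X ⟶ Y) [LocallyOfFinitePresentation f] (g : Y ⟶ X) (hg : g ≫ f = 𝟙 Y)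
    (hgi : Unibranch.GeomIrredComp f g) {y : Y}
    (hdim : ∀ t, t ⤳ y → topologicalKrullDim ↥(connectedComponentIn (f.base ⁻¹' {t}) (g.base t)) =
      topologicalKrullDim ↥(connectedComponentIn (f.base ⁻¹' {y}) (g.base y)))
    {x : X} (hx : x ∈ connectedComponentIn (f.base ⁻¹' {y}) (g.base y)) : EGA43.IsUnivOpenAt f x := by
  intro Y' σ x' hx'
  let f' := pullback.snd f σ
  let g' : Y' ⟶ pullback f σ :=
    pullback.lift (σ ≫ g) (𝟙 _) (by rw [Category.assoc, hg, Category.comp_id, Category.id_comp])
  have hg' : g' ≫ f' = 𝟙 _ := pullback.lift_snd _ _ _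
  have hge : g' ≫ pullback.fst f σ = σ ≫ g := pullback.lift_fst _ _ _
  have H := fun t ↦ hgi.component_baseChange hg (IsPullback.of_hasPullback f σ) hg' hge t
  have hσy : σ (f' x') = y := by
    show (pullback.snd f σ ≫ σ) x' = y
    rw [← pullback.condition, Scheme.Hom.comp_apply, hx']
    exact connectedComponentIn_subset (f.base ⁻¹' {y}) _ hx
  refine GrpDim.isOpenAt_of_lifts f' fun a ha => ?_
  refine exists_specializes_of_component_dim f' g' hg' ha (H _).2.1 (H a).2.1 ?_ x' ?_
  · have hd : topologicalKrullDim ↥(connectedComponentIn (f.base ⁻¹' {σ.base a}) (g.base (σ.base a))) =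
        topologicalKrullDim ↥(connectedComponentIn (f.base ⁻¹' {y}) (g.base y)) :=
      hdim _ (hσy ▸ ha.map σ.continuous)
    rw [(H _).2.2, (H a).2.2, hd, show σ.base (pullback.snd f σ x') = y from hσy]
  · rw [(H _).1, show σ.base (f'.base x') = y from hσy]
    exact ⟨rfl, show (pullback.fst f σ).base x' ∈ _ from hx'.symm ▸ hx⟩

/-- A generisation within the fibre stays in the component. -/
theorem mem_connectedComponentIn_of_specializes (f : X ⟶ Y) {y : Y} {c x z : X}
    (hx : x ∈ connectedComponentIn (f.base ⁻¹' {y}) c) (hz : z ⤳ x) (hzy : f z = y) :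
    z ∈ connectedComponentIn (f.base ⁻¹' {y}) c := by
  rw [connectedComponentIn_eq hx]
  have hxy : f x = y := connectedComponentIn_subset (f.base ⁻¹' {y}) c hx
  refine IsPreconnected.subset_connectedComponentIn (s := {z, x}) ?_ (Set.mem_insert_of_mem _ rfl) ?_
    (Set.mem_insert _ _)
  · exact isPreconnected_singleton.subset_closure (Set.singleton_subset_iff.mpr (Set.mem_insert z {x}))
      (Set.insert_subset (subset_closure rfl) (Set.singleton_subset_iff.mpr (specializes_iff_mem_closure.mp hz)))
  · exact Set.insert_subset hzy (Set.singleton_subset_iff.mpr hxy)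

end Groth.Agent.UOFlat
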