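import Groth.Agent.Unibranch.SectionBaseChange
import Groth.Agent.GeomFib.SectionConn
import Groth.Agent.FlatMor.ReducedDescent

/-!
# Geometric irreducibility of the component through a section and base change
-/

set_option autoImplicit false
set_option linter.style.haveILetI false
set_option backward.isDefEq.respectTransparency false
universe u
open CategoryTheory AlgebraicGeometry Limits TensorProduct

namespace Groth.Agent.UOFlat
open Unibranch

variable {X Y X' Y' : Scheme.{u}} {f : X ⟶ Y} {g : Y ⟶ X} {f' : X' ⟶ Y'} {e : X' ⟶ X} {σ : Y' ⟶ Y}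
  {g' : Y' ⟶ X'}

/-- Comparison of the preimages of the components in base changes to fields. -/
theorem exists_bc_map [LocallyOfFiniteType f] (hg : g ≫ f = 𝟙 Y) (hsq : IsPullback e f' f σ)
    (hg' : g' ≫ f' = 𝟙 Y') (hge : g' ≫ e = σ ≫ g) (t : Y') (K L : Type u) [Field K] [Field L]
    [Algebra (IsLocalRing.ResidueField (Y.presheaf.stalk (σ.base t))) K]
    [Algebra (IsLocalRing.ResidueField (Y'.presheaf.stalk t)) L]
    (ι : K →+* L) (hι : ι.comp (algebraMap (IsLocalRing.ResidueField (Y.presheaf.stalk (σ.base t))) K) =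
      (algebraMap (IsLocalRing.ResidueField (Y'.presheaf.stalk t)) L).comp (σ.residueFieldMap t).hom) :
    ∃ Φ : FBase.bc (f'.fiberToSpecResidueField t) L ⟶ FBase.bc (f.fiberToSpecResidueField (σ.base t)) K,
      IsPullback Φ (FBase.bcStr (f'.fiberToSpecResidueField t) L) (FBase.bcStr (f.fiberToSpecResidueField (σ.base t)) K)
        (Spec.map (CommRingCat.ofHom ι)) ∧
      Φ.base ⁻¹' ((FBase.bcπ (f.fiberToSpecResidueField (σ.base t)) K ≫ f.fiberι (σ.base t)).base ⁻¹'
          connectedComponentIn (f.base ⁻¹' {σ.base t}) (g.base (σ.base t))) =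
        (FBase.bcπ (f'.fiberToSpecResidueField t) L ≫ f'.fiberι t).base ⁻¹'
          connectedComponentIn (f'.base ⁻¹' {t}) (g'.base t) := by
  let q := ConsEngine.fiberBC hsq t
  have hq := ConsEngine.isPullback_fiberBC hsq t
  let vK := Spec.map (CommRingCat.ofHom (algebraMap (IsLocalRing.ResidueField (Y.presheaf.stalk (σ.base t))) K))
  let vL := Spec.map (CommRingCat.ofHom (algebraMap (IsLocalRing.ResidueField (Y'.presheaf.stalk t)) L))
  have hv : vL ≫ Spec.map (σ.residueFieldMap t) = Spec.map (CommRingCat.ofHom ι) ≫ vK := by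
    rw [← Spec.map_comp]
    exact ((Spec.map_comp _ _).symm.trans (congrArg (fun φ => Spec.map (CommRingCat.ofHom φ)) hι)).symm
  have hbig : IsPullback (pullback.fst (f'.fiberToSpecResidueField t) vL ≫ q)
      (pullback.snd (f'.fiberToSpecResidueField t) vL) (f.fiberToSpecResidueField (σ.base t))
      (Spec.map (CommRingCat.ofHom ι) ≫ vK) := by
    rw [← hv]
    exact (IsPullback.of_hasPullback _ _).paste_horiz hq
  let Φ : FBase.bc (f'.fiberToSpecResidueField t) L ⟶ FBase.bc (f.fiberToSpecResidueField (σ.base t)) K :=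
    pullback.lift (pullback.fst _ vL ≫ q) (pullback.snd _ vL ≫ Spec.map (CommRingCat.ofHom ι))
      (by rw [hbig.w, Category.assoc])
  have hfst : Φ ≫ pullback.fst (f.fiberToSpecResidueField (σ.base t)) vK =
      pullback.fst (f'.fiberToSpecResidueField t) vL ≫ q := pullback.lift_fst _ _ _
  refine ⟨Φ, IsPullback.of_right (Eq.mpr (congrArg (fun φ => IsPullback φ
      (FBase.bcStr (f'.fiberToSpecResidueField t) L) (f.fiberToSpecResidueField (σ.base t)) _) hfst) hbig)
    (pullback.lift_snd _ _ _) (IsPullback.of_hasPullback _ _), Set.ext fun a ↦ ?_⟩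
  let z' := f'.fiberι t (pullback.fst (f'.fiberToSpecResidueField t) vL a)
  have hz' : f'.base z' = t := (f'.range_fiberι t).le ⟨_, rfl⟩
  have hz : f.fiberι (σ.base t) (pullback.fst (f.fiberToSpecResidueField (σ.base t)) vK (Φ a)) = e z' := by
    have h0 : pullback.fst (f.fiberToSpecResidueField (σ.base t)) vK (Φ a) =
        q (pullback.fst (f'.fiberToSpecResidueField t) vL a) := congr($hfst a)
    exact (congrArg (f.fiberι _) h0).trans congr($(ConsEngine.fiberBC_fiberι hsq t) (pullback.fst (f'.fiberToSpecResidueField t) vL a))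
  show f.fiberι (σ.base t) (pullback.fst (f.fiberToSpecResidueField (σ.base t)) vK (Φ a)) ∈
      connectedComponentIn (f.base ⁻¹' {σ.base t}) (g.base (σ.base t)) ↔
    z' ∈ connectedComponentIn (f'.base ⁻¹' {t}) (g'.base t)
  rw [hz]
  have hfe : f.base (e.base z') = σ.base t := by
    show (e ≫ f).base z' = _
    rw [hsq.w]
    exact congrArg σ.base hz'
  have hSC := Set.ext_iff.mp (GeomFib.sectionComponents_baseChange f g hg hsq hg' hge) z'
  change z' ∈ connectedComponentIn (f'.base ⁻¹' {f'.base z'}) (g'.base (f'.base z')) ↔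
    e.base z' ∈ connectedComponentIn (f.base ⁻¹' {f.base (e.base z')}) (g.base (f.base (e.base z'))) at hSC
  rw [hz', hfe] at hSC
  exact hSC.symm

/-- Geometric irreducibility descends along base change. -/
theorem geomIrredAt_of_baseChange [LocallyOfFiniteType f] (hg : g ≫ f = 𝟙 Y) (hsq : IsPullback e f' f σ)
    (hg' : g' ≫ f' = 𝟙 Y') (hge : g' ≫ e = σ ≫ g) (t : Y') (h : GeomIrredAt f' g' t) :
    GeomIrredAt f g (σ.base t) := by
  intro K _ _
  let k := IsLocalRing.ResidueField (Y.presheaf.stalk (σ.base t))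
  let k' := IsLocalRing.ResidueField (Y'.presheaf.stalk t)
  letI : Algebra k k' := (σ.residueFieldMap t).hom.toAlgebra
  obtain ⟨m, hm⟩ := Ideal.exists_maximal (K ⊗[k] k')
  letI := Ideal.Quotient.field m
  let ι : K →+* (K ⊗[k] k') ⧸ m := (Ideal.Quotient.mk m).comp
    (Algebra.TensorProduct.includeLeft (R := k) (S := k) (A := K) (B := k')).toRingHom
  let j : k' →+* (K ⊗[k] k') ⧸ m := (Ideal.Quotient.mk m).comp
    (Algebra.TensorProduct.includeRight (R := k) (A := K) (B := k')).toRingHom
  letI : Algebra k' ((K ⊗[k] k') ⧸ m) := j.toAlgebra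
  have hι : ι.comp (algebraMap k K) = j.comp (σ.residueFieldMap t).hom := RingHom.ext fun a ↦
    congrArg (Ideal.Quotient.mk m) (show algebraMap k K a ⊗ₜ[k] (1 : k') = (1 : K) ⊗ₜ[k] algebraMap k k' a by
      rw [Algebra.algebraMap_eq_smul_one (A := K) a, Algebra.algebraMap_eq_smul_one (A := k') a, TensorProduct.smul_tmul])
  obtain ⟨Φ, hΦ, hP⟩ := exists_bc_map hg hsq hg' hge t K ((K ⊗[k] k') ⧸ m) ι hι
  haveI : Surjective (Spec.map (CommRingCat.ofHom ι)) := (FlatMor.flat_surjective_spec_field_hom ι).2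
  haveI : Surjective Φ := MorphismProperty.of_isPullback hΦ.flip ‹_›
  rw [← Set.image_preimage_eq ((FBase.bcπ (f.fiberToSpecResidueField (σ.base t)) K ≫ f.fiberι (σ.base t)).base ⁻¹'
    connectedComponentIn (f.base ⁻¹' {σ.base t}) (g.base (σ.base t))) Φ.surjective, hP]
  exact (h ((K ⊗[k] k') ⧸ m)).image _ Φ.continuous.continuousOn

/-- Geometric irreducibility ascends along base change. -/
theorem geomIrredAt_baseChange [LocallyOfFiniteType f] (hg : g ≫ f = 𝟙 Y) (hsq : IsPullback e f' f σ)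
    (hg' : g' ≫ f' = 𝟙 Y') (hge : g' ≫ e = σ ≫ g) (t : Y') (h : GeomIrredAt f g (σ.base t)) :
    GeomIrredAt f' g' t := by
  intro L _ _
  letI : Algebra (IsLocalRing.ResidueField (Y.presheaf.stalk (σ.base t))) L :=
    ((algebraMap (IsLocalRing.ResidueField (Y'.presheaf.stalk t)) L).comp (σ.residueFieldMap t).hom).toAlgebra
  obtain ⟨Φ, hΦ, hP⟩ := exists_bc_map hg hsq hg' hge t L L (RingHom.id L) rfl
  haveI : IsIso (Spec.map (CommRingCat.ofHom (RingHom.id L))) := by
    rw [CommRingCat.ofHom_id, Spec.map_id]; infer_instance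
  haveI : IsIso Φ := hΦ.isIso_fst_of_isIso
  rw [← hP, show (Φ.base ⁻¹' _) = (inv Φ).base '' _ from ?_]
  · exact (h L).image _ (inv Φ).continuous.continuousOn
  ext a
  refine ⟨fun ha ↦ ⟨Φ a, ha, ?_⟩, ?_⟩
  · exact congr($(IsIso.hom_inv_id Φ) a)
  · rintro ⟨b, hb, rfl⟩
    have hb' : Φ.base ((inv Φ).base b) = b := congr($(IsIso.inv_hom_id Φ) b)
    exact (congrArg (· ∈ _) hb').mpr hb

end Groth.Agent.UOFlat
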