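import Groth.Agent.UOFlat.ReducedBase
import Groth.Agent.UOFlat.General

/-!
# The geometrically reduced locus near a point of universal openness
-/

set_option autoImplicit false
set_option linter.style.haveILetI false
set_option backward.isDefEq.respectTransparency false
universe u
open CategoryTheory AlgebraicGeometry Limits

namespace Groth.Agent.UOFlat
open GeomRedAt (GR)

variable {X Y : Scheme.{u}}

/-- **The fibres are geometrically reduced near a point of a geometrically reduced fibre, if the morphism is
universally open at the maximal points of the fibre near the point.** -/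
theorem exists_nhd_gr_lfp (f : X ⟶ Y) [LocallyOfFinitePresentation f] (x : X)
    (hopen : ∀ z, z ⤳ x → f z = f x → (∀ z', z' ⤳ z → f z' = f x → z' = z) → EGA43.IsUnivOpenAt f z)
    (hred : GR f x) : ∃ U : X.Opens, x ∈ U ∧ ∀ z ∈ U, GR f z := by
  let r := Y.nilradical.subschemeι
  haveI : AlgebraicGeometry.IsReduced Y.nilradical.subscheme := RedSepLib.isReduced_subscheme_nilradical Y
  haveI : Surjective r := ⟨fun y => by
    have : y ∈ Set.range r := by rw [Scheme.IdealSheafData.range_subschemeι, Scheme.support_nilradical]; trivial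
    exact this⟩
  let a := pullback.fst f r
  haveI : IsClosedImmersion a := inferInstance
  haveI : Surjective a := inferInstance
  have hpb : IsPullback a (pullback.snd f r) f r := IsPullback.of_hasPullback f r
  obtain ⟨x', rfl⟩ := a.surjective x
  have hf' : ∀ w w', f (a w) = f (a w') ↔ pullback.snd f r w = pullback.snd f r w' := fun w w' => by
    rw [← Scheme.Hom.comp_apply a f, ← Scheme.Hom.comp_apply a f, hpb.w, Scheme.Hom.comp_apply, Scheme.Hom.comp_apply]
    exact r.isClosedEmbedding.injective.eq_iff
  have hflat : ((pullback.snd f r).stalkMap x').hom.Flat := by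
    refine flat_stalkMap_lfp _ x' (fun z hz hfz hmax => ?_) ((GeomRedAt.gr_baseChange_iff hpb x').mpr hred)
    refine GoingDown.isUnivOpenAt_of_isPullback hpb
      (hopen (a z) (hz.map a.continuous) ((hf' z x').mpr hfz) fun z' hz' hfz' => ?_)
    obtain ⟨w, rfl⟩ := a.surjective z'
    rw [hmax w (a.isClosedEmbedding.isInducing.specializes_iff.mp hz') ((hf' w x').mp hfz')]
  have hO : IsOpen {w : ↥(pullback f r) | ((pullback.snd f r).stalkMap w).hom.Flat ∧ GR (pullback.snd f r) w} := by
    simpa only [GeomRedAt.isGeomReducedAt_iff] using Groth.Agent.S4963.result (pullback.snd f r)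
  obtain ⟨U, hU, hUO⟩ := a.isClosedEmbedding.isInducing.isOpen_iff.mp hO
  refine ⟨⟨U, hU⟩, (Set.ext_iff.mp hUO x').mpr ⟨hflat, (GeomRedAt.gr_baseChange_iff hpb x').mpr hred⟩, fun z hz => ?_⟩
  obtain ⟨w, rfl⟩ := a.surjective z
  exact (GeomRedAt.gr_baseChange_iff hpb w).mp ((Set.ext_iff.mp hUO w).mp hz).2

end Groth.Agent.UOFlat
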