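import Groth.Agent.Unibranch.SectionOpen
import Groth.Agent.UOFlat.Component

/-!
# Components of constant dimension through geometrically reduced points
-/

set_option linter.style.haveILetI false

universe u

open CategoryTheory AlgebraicGeometry Topology TopologicalSpace Limits

namespace Groth.Agent.UOFlat
open Unibranch

variable {X Y : Scheme.{u}}

/-- Generisations of a geometrically reduced point of the components through a section stay there when
the dimension of the components is the same. -/
theorem mem_sectionComponents_of_generization_dim [IsLocallyNoetherian Y] (f : X ⟶ Y) [LocallyOfFiniteType f]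
    (g : Y ⟶ X) (hg : g ≫ f = 𝟙 Y) {y : Y} (hgi : GeomIrredAt f g y)
    {x : X} (hxy : f.base x = y) (hx : x ∈ connectedComponentIn (f.base ⁻¹' {y}) (g.base y))
    (hredx : FBase.IsGeomReducedAt (f.fiberToSpecResidueField (f.base x)) (f.asFiber x))
    {x' : X} (hx' : x' ⤳ x) (hgi' : GeomIrredAt f g (f.base x'))
    (hdim : topologicalKrullDim ↥(connectedComponentIn (f.base ⁻¹' {y}) (g.base y)) =
      topologicalKrullDim ↥(connectedComponentIn (f.base ⁻¹' {f.base x'}) (g.base (f.base x')))) :
    x' ∈ MoreMor.sectionComponents f g := by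
  have := LocallyOfFiniteType.isLocallyNoetherian f
  by_cases hne : f.base x' = y
  · show x' ∈ connectedComponentIn (f.base ⁻¹' {f.base x'}) (g.base (f.base x'))
    rw [hne]
    have hgy : f.base (g.base y) = y := by
      have : (g ≫ f).base y = y := by rw [hg]; rfl
      exact this
    have h := Unibranch.mem_connectedComponentIn_of_specializes f (x := g.base y) hx' (hne.trans hgy.symm) (hxy.trans hgy.symm)
    rw [hgy] at h
    exact h.mp hx
  have hgy : f.base (g.base y) = y := by
    have : (g ≫ f).base y = y := by rw [hg]; rfl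
    exact this
  obtain ⟨A, g₁, _, hg₁c, hg₁η⟩ := DvrDom.exists_dvr_through (𝟙 X) x' x (by simpa using hx')
    (by
      intro h
      have h' : x = x' := by simpa using h
      exact hne (h' ▸ hxy))
  let c : ↥(Spec (CommRingCat.of A)) := IsLocalRing.closedPoint A
  let η : ↥(Spec (CommRingCat.of A)) := ⟨⊥, Ideal.isPrime_bot⟩
  have hηc : η ⤳ c := (PrimeSpectrum.le_iff_specializes η c).mp bot_le
  have hηne : η ≠ c := fun h ↦ IsDiscreteValuationRing.not_a_field A
    (congrArg PrimeSpectrum.asIdeal h).symm
  have hmax : ∀ t : ↥(Spec (CommRingCat.of A)), t ≠ c → t = η := fun t ht ↦ by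
    by_contra h
    have : t.asIdeal.IsMaximal := t.2.isMaximal fun hb ↦ h (PrimeSpectrum.ext hb)
    exact ht (PrimeSpectrum.ext (IsLocalRing.eq_maximalIdeal this))
  have hη' : g₁.base η = x' := by
    have h1 := congr($hg₁η (default : PrimeSpectrum (X.residueField x')))
    rw [Scheme.Hom.comp_apply, Scheme.Hom.comp_apply] at h1
    have h2 : Spec.map (CommRingCat.ofHom A.subtype) (default : PrimeSpectrum (X.residueField x')) = η := by
      refine PrimeSpectrum.ext ?_
      show Ideal.comap A.subtype _ = ⊥
      rw [show (default : PrimeSpectrum (X.residueField x')).asIdeal = ⊥ from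
        ((Ideal.eq_bot_or_top _).resolve_right (default : PrimeSpectrum (X.residueField x')).2.ne_top)]
      exact Ideal.comap_bot_of_injective _ Subtype.val_injective
    rw [h2] at h1
    simpa using h1
  let g₀ := g₁ ≫ f
  let f' := pullback.snd f g₀
  let e := pullback.fst f g₀
  have hsq : IsPullback e f' f g₀ := IsPullback.of_hasPullback f g₀
  let g' : Spec (CommRingCat.of A) ⟶ pullback f g₀ :=
    pullback.lift (g₀ ≫ g) (𝟙 _) (by rw [Category.assoc, hg, Category.comp_id, Category.id_comp])
  have hg' : g' ≫ f' = 𝟙 _ := pullback.lift_snd _ _ _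
  have hge : g' ≫ e = g₀ ≫ g := pullback.lift_fst _ _ _
  have hyc : g₀.base c = y := by rw [show g₀.base c = f.base (g₁.base c) from rfl, hg₁c]; exact hxy
  have hyη : g₀.base η = f.base x' := (show g₀.base η = f.base (g₁.base η) from rfl).trans (congrArg f.base hη')
  obtain ⟨hCc, hirrc, hdimc⟩ := component_baseChange_at hg hsq hg' hge c (hyc.symm ▸ hgi)
  obtain ⟨hCη, hirrη, hdimη⟩ := component_baseChange_at hg hsq hg' hge η (hyη.symm ▸ hgi')
  have hgc : f'.base (g'.base c) = c := by
    have : (g' ≫ f').base c = c := by rw [hg']; rfl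
    exact this
  have hgη : f'.base (g'.base η) = η := by
    have : (g' ≫ f').base η = η := by rw [hg']; rfl
    exact this
  have hegc : e.base (g'.base c) = g.base y := by
    have : (g' ≫ e).base c = (g₀ ≫ g).base c := by rw [hge]
    exact this.trans (congrArg g.base hyc)
  have key : ∀ (a : Y) (q : ↥(f.fiber a)) (x : X), f.fiberι a q = x →
      FBase.IsGeomReducedAt (f.fiberToSpecResidueField (f.base x)) (f.asFiber x) →
      FBase.IsGeomReducedAt (f.fiberToSpecResidueField a) q := by
    intro a q x hqx h
    obtain rfl : f.base x = a := hqx ▸ (f.range_fiberι a).le ⟨q, rfl⟩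
    obtain rfl : q = f.asFiber x := (f.fiberι _).isEmbedding.injective
      (hqx.trans (f.fiberι_asFiber x).symm)
    exact h
  have hredat : ∀ (z : ↥(pullback f g₀)) (p : ↥(f'.fiber c)), f'.fiberι c p = z →
      FBase.IsGeomReducedAt (f.fiberToSpecResidueField (f.base (e.base z))) (f.asFiber (e.base z)) →
      _root_.IsReduced ((f'.fiber c).presheaf.stalk p) := by
    intro z p hp h
    refine isReduced_stalk_fiber_of_geomReduced hsq c p (key _ _ _ ?_ h)
    rw [← Scheme.Hom.comp_apply, ConsEngine.fiberBC_fiberι, Scheme.Hom.comp_apply, hp]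
  -- the tautological point of the base change
  let l : Spec (CommRingCat.of A) ⟶ pullback f g₀ := pullback.lift g₁ (𝟙 _) (by rw [Category.id_comp])
  have hle : l ≫ e = g₁ := pullback.lift_fst _ _ _
  have hlf : ∀ t, f'.base (l.base t) = t := fun t ↦ by
    have : (l ≫ f').base t = t := by rw [show l ≫ f' = 𝟙 _ from pullback.lift_snd _ _ _]; rfl
    exact this
  have hel : ∀ t, e.base (l.base t) = g₁.base t := fun t ↦ by
    show (l ≫ e).base t = _
    rw [hle]
  obtain ⟨p₂, hp₂⟩ := (f'.range_fiberι c).ge (hlf c)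
  have helc : e.base (l.base c) = x := (hel c).trans hg₁c
  have hlC : l.base c ∈ connectedComponentIn (f'.base ⁻¹' {c}) (g'.base c) := by
    rw [hCc, hyc]
    exact ⟨hlf c, show e.base (l.base c) ∈ _ from helc.symm ▸ hx⟩
  obtain ⟨ζ, hζC, hζη, hspec⟩ := exists_generic_specializes_of_component_dim f' g' hg' hηc hirrc hirrη
    (by rw [hdimc, hdimη, hyc, hyη]; exact hdim)
  obtain ⟨ζ₂, hfζ₂, huniq₂, -⟩ := exists_generic_component_of_dvr f' g' hg' hηc hηne hmax hirrc p₂
    (by rw [hp₂]; exact hlC) (hredat _ p₂ hp₂ (by rw [helc]; exact hredx)) fun w hw _ => ⟨ζ, hspec w hw, hζη⟩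
  have h1 : ζ₂ ⤳ ζ := huniq₂ ζ (by rw [hp₂]; exact hspec _ hlC)
  have h2 : ζ₂ ⤳ l.base η := huniq₂ _ (by rw [hp₂]; exact hηc.map l.continuous)
  have h3 := Unibranch.mem_connectedComponentIn_of_specializes f' (x := g'.base η) h1 (hfζ₂.trans hgη.symm)
    (hζη.trans hgη.symm)
  have h4 := Unibranch.mem_connectedComponentIn_of_specializes f' (x := g'.base η) h2 (hfζ₂.trans hgη.symm)
    ((hlf η).trans hgη.symm)
  rw [hgη] at h3 h4
  have hmem := h4.mpr (h3.mp hζC)
  rw [hCη] at hmem
  show x' ∈ connectedComponentIn (f.base ⁻¹' {f.base x'}) (g.base (f.base x'))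
  have h5 : e.base (l.base η) ∈ connectedComponentIn (f.base ⁻¹' {g₀.base η}) (g.base (g₀.base η)) := hmem.2
  rw [hel, hη', hyη] at h5
  exact h5

end Groth.Agent.UOFlat
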