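import Groth.Agent.UOFlat.GeomIrred
import Groth.Agent.UOFlat.SectionDim
import Groth.Agent.GeomFib.SectionConn

/-!
# Generisations of geometrically reduced points of the section components, without Noetherian hypotheses
-/

set_option autoImplicit false
set_option linter.style.haveILetI false
universe u
open CategoryTheory AlgebraicGeometry Limits

namespace Groth.Agent.UOFlat
open Unibranch
open GeomRedAt (GR)

variable {X Y X' Y' : Scheme.{u}}

/-- The statement about generisations for the base change implies that for the original family. -/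
theorem mem_sectionComponents_transfer {f : X ⟶ Y} [LocallyOfFiniteType f] {g : Y ⟶ X} (hg : g ≫ f = 𝟙 Y)
    {f' : X' ⟶ Y'} {e : X' ⟶ X} {σ : Y' ⟶ Y} (hsq : IsPullback e f' f σ) {g' : Y' ⟶ X'}
    (hg' : g' ≫ f' = 𝟙 Y') (hge : g' ≫ e = σ ≫ g)
    (H : ∀ {a a' : X}, a' ⤳ a → a ∈ MoreMor.sectionComponents f g → GR f a →
      GeomIrredAt f g (f.base a) → GeomIrredAt f g (f.base a') →
      topologicalKrullDim ↥(connectedComponentIn (f.base ⁻¹' {f.base a}) (g.base (f.base a))) =
        topologicalKrullDim ↥(connectedComponentIn (f.base ⁻¹' {f.base a'}) (g.base (f.base a'))) →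
      a' ∈ MoreMor.sectionComponents f g)
    {x x' : X'} (hx' : x' ⤳ x) (hx : x ∈ MoreMor.sectionComponents f' g') (hred : GR f' x)
    (hgi : GeomIrredAt f' g' (f'.base x)) (hgi' : GeomIrredAt f' g' (f'.base x'))
    (hdim : topologicalKrullDim ↥(connectedComponentIn (f'.base ⁻¹' {f'.base x}) (g'.base (f'.base x))) =
      topologicalKrullDim ↥(connectedComponentIn (f'.base ⁻¹' {f'.base x'}) (g'.base (f'.base x')))) :
    x' ∈ MoreMor.sectionComponents f' g' := by
  rw [GeomFib.sectionComponents_baseChange f g hg hsq hg' hge] at hx ⊢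
  have hfe : ∀ z : X', f.base (e.base z) = σ.base (f'.base z) := fun z ↦ by
    show (e ≫ f).base z = _
    rw [hsq.w]; rfl
  have h1 := geomIrredAt_of_baseChange hg hsq hg' hge _ hgi
  have h1' := geomIrredAt_of_baseChange hg hsq hg' hge _ hgi'
  refine H (hx'.map e.continuous) hx ((GeomRedAt.gr_baseChange_iff hsq x).mp hred) ?_ ?_ ?_
  · rw [hfe]; exact h1
  · rw [hfe]; exact h1'
  rw [hfe, hfe, ← (component_baseChange_at hg hsq hg' hge _ h1).2.2,
    ← (component_baseChange_at hg hsq hg' hge _ h1').2.2]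
  exact hdim

theorem mem_sectionComponents_of_generization_affine {A : Type u} [CommRing A]
    (f : X ⟶ Spec (CommRingCat.of A)) (g : Spec (CommRingCat.of A) ⟶ X) (hg : g ≫ f = 𝟙 _)
    [LocallyOfFinitePresentation f] [QuasiCompact f] [QuasiSeparated f]
    {x x' : X} (hx' : x' ⤳ x) (hx : x ∈ MoreMor.sectionComponents f g) (hred : GR f x)
    (hgi : GeomIrredAt f g (f.base x)) (hgi' : GeomIrredAt f g (f.base x'))
    (hdim : topologicalKrullDim ↥(connectedComponentIn (f.base ⁻¹' {f.base x}) (g.base (f.base x))) =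
      topologicalKrullDim ↥(connectedComponentIn (f.base ⁻¹' {f.base x'}) (g.base (f.base x')))) :
    x' ∈ MoreMor.sectionComponents f g := by
  have : LocallyOfFinitePresentation (g ≫ f) := by rw [hg]; infer_instance
  have : QuasiCompact (g ≫ f) := by rw [hg]; infer_instance
  have : QuasiSeparated (g ≫ f) := by rw [hg]; infer_instance
  obtain ⟨S₀, σ, T₀, X₀, g₀, f₀, qX, qT, hnoeth, _, _, _, _, _, _, hX, hT⟩ := ConsEngine.exists_model_mor g f
  let τ := g₀ ≫ f₀
  have hτ : qT ≫ τ = σ := by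
    rw [← Category.assoc, hT.w, Category.assoc, hX.w, ← Category.assoc, hg, Category.id_comp]
  have hnT : IsLocallyNoetherian T₀ := LocallyOfFiniteType.isLocallyNoetherian τ
  let f₁ := pullback.snd f₀ τ
  let g₁ : T₀ ⟶ pullback f₀ τ := pullback.lift g₀ (𝟙 _) (by rw [Category.id_comp])
  have hg₁ : g₁ ≫ f₁ = 𝟙 _ := pullback.lift_snd _ _ _
  let e : X ⟶ pullback f₀ τ := pullback.lift qX (f ≫ qT) (by rw [Category.assoc, hτ, hX.w])
  have hsq : IsPullback e f f₁ qT := by
    refine IsPullback.of_right ?_ (pullback.lift_snd _ _ _) (IsPullback.of_hasPullback f₀ τ)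
    rw [pullback.lift_fst, hτ]
    exact hX
  have hge : g ≫ e = qT ≫ g₁ := by
    apply pullback.hom_ext
    · simp only [e, g₁, Category.assoc, pullback.lift_fst]
      exact hT.w.symm
    · simp only [e, g₁, Category.assoc, pullback.lift_snd, Category.comp_id]
      rw [← Category.assoc, hg, Category.id_comp]
  exact mem_sectionComponents_transfer hg₁ hsq hg hge
    (fun {a a'} ha h1 h2 h3 h4 h5 => mem_sectionComponents_of_generization_dim f₁ g₁ hg₁ h3 rfl h1
      ((GeomRedAt.isGeomReducedAt_iff _ _).mpr h2) ha h4 h5) hx' hx hred hgi hgi' hdim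

/-- **Generisations of a geometrically reduced point of the section components stay in them, when the
dimensions of the components agree.** -/
theorem mem_sectionComponents_of_generization_fp (f : X ⟶ Y) (g : Y ⟶ X) (hg : g ≫ f = 𝟙 Y)
    [LocallyOfFinitePresentation f] [QuasiCompact f] [QuasiSeparated f]
    {x x' : X} (hx' : x' ⤳ x) (hx : x ∈ MoreMor.sectionComponents f g) (hred : GR f x)
    (hgi : GeomIrredAt f g (f.base x)) (hgi' : GeomIrredAt f g (f.base x'))
    (hdim : topologicalKrullDim ↥(connectedComponentIn (f.base ⁻¹' {f.base x}) (g.base (f.base x))) =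
      topologicalKrullDim ↥(connectedComponentIn (f.base ⁻¹' {f.base x'}) (g.base (f.base x')))) :
    x' ∈ MoreMor.sectionComponents f g := by
  obtain ⟨V, hV, hxV, -⟩ := exists_isAffineOpen_mem_and_subset (X := Y) (U := ⊤) (x := f.base x) trivial
  let f' : (f ⁻¹ᵁ V).toScheme ⟶ Spec Γ(Y, V) := f ∣_ V ≫ hV.isoSpec.hom
  let σ : Spec Γ(Y, V) ⟶ Y := hV.fromSpec
  have hsq : IsPullback (f ⁻¹ᵁ V).ι f' f σ :=
    (isPullback_morphismRestrict f V).flip.of_iso (Iso.refl _) (Iso.refl _) hV.isoSpec (Iso.refl _)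
      (by simp) (by simp [f']) (by simp) (by simp [σ, hV.isoSpec_hom_fromSpec])
  have : LocallyOfFinitePresentation f' := MorphismProperty.of_isPullback hsq ‹_›
  have : QuasiCompact f' := MorphismProperty.of_isPullback hsq ‹_›
  have : QuasiSeparated f' := MorphismProperty.of_isPullback hsq ‹_›
  let g' : Spec Γ(Y, V) ⟶ (f ⁻¹ᵁ V).toScheme :=
    hsq.lift (σ ≫ g) (𝟙 _) (by rw [Category.assoc, hg, Category.comp_id, Category.id_comp])
  have hg' : g' ≫ f' = 𝟙 _ := hsq.lift_snd _ _ _
  have hge : g' ≫ (f ⁻¹ᵁ V).ι = σ ≫ g := hsq.lift_fst _ _ _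
  obtain ⟨a, rfl⟩ : ∃ a : (f ⁻¹ᵁ V).toScheme, (f ⁻¹ᵁ V).ι a = x := ⟨⟨x, hxV⟩, rfl⟩
  obtain ⟨a', rfl⟩ : ∃ a' : (f ⁻¹ᵁ V).toScheme, (f ⁻¹ᵁ V).ι a' = x' :=
    ⟨⟨x', hx'.mem_open (f ⁻¹ᵁ V).2 a.2⟩, rfl⟩
  have hfe : ∀ z, f.base ((f ⁻¹ᵁ V).ι.base z) = σ.base (f'.base z) := fun z ↦ by
    show ((f ⁻¹ᵁ V).ι ≫ f).base z = _
    rw [hsq.w]; rfl
  have h1 : GeomIrredAt f g (σ.base (f'.base a)) := hfe a ▸ hgi
  have h1' : GeomIrredAt f g (σ.base (f'.base a')) := hfe a' ▸ hgi'
  have hpre := GeomFib.sectionComponents_baseChange f g hg hsq hg' hge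
  have := mem_sectionComponents_of_generization_affine (A := Γ(Y, V)) f' g' hg'
    ((f ⁻¹ᵁ V).ι.isOpenEmbedding.isInducing.specializes_iff.mp hx')
    ((Set.ext_iff.mp hpre a).mpr hx) ((GeomRedAt.gr_baseChange_iff hsq a).mpr hred)
    (geomIrredAt_baseChange hg hsq hg' hge _ h1) (geomIrredAt_baseChange hg hsq hg' hge _ h1')
    (by
      rw [(component_baseChange_at hg hsq hg' hge _ h1).2.2, (component_baseChange_at hg hsq hg' hge _ h1').2.2,
        ← hfe, ← hfe]
      exact hdim)
  exact (Set.ext_iff.mp hpre a').mp this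

end Groth.Agent.UOFlat
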