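import Groth.Agent.Hensel.EtaleNormal
import Groth.Agent.Hensel.HenselizationMore
import Groth.Agent.Unibranch.Rad
import Groth.Agent.Unibranch.Lifting
import Mathlib

/-!
# A universally open morphism is flat at the smooth maximal points of its fibres over a reduced base
-/

set_option autoImplicit false
set_option linter.style.haveILetI false
universe u
open TensorProduct

namespace Groth.Agent.UOFlat

/-- Over a normal domain, a prime of a standard étale algebra over the generic point is contained in all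
generisations of its specialisations. -/
theorem le_of_normal {W : Type u} [CommRing W] [IsDomain W] [IsIntegrallyClosed W] (SW : StandardEtalePair W)
    (s₀ q₁ q₂ : Ideal SW.Ring) [s₀.IsPrime] [q₁.IsPrime] [q₂.IsPrime] (h₁ : q₁ ≤ s₀) (h₂ : q₂ ≤ s₀)
    (hbot : q₁.under W = ⊥) : q₁ ≤ q₂ := by
  let S := Localization.AtPrime s₀
  let ι : SW.Ring →ₐ[W] S := IsScalarTower.toAlgHom W SW.Ring S
  obtain ⟨hdom, -⟩ := Hensel.normal_localization_standardEtale SW S ι
    (fun z => by
      obtain ⟨⟨b, c⟩, h⟩ := IsLocalization.surj s₀.primeCompl z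
      exact ⟨b, c, IsLocalization.map_units S c, h⟩)
    (fun b hb => by
      obtain ⟨c, hc⟩ := (IsLocalization.map_eq_zero_iff s₀.primeCompl S b).1 hb
      exact ⟨c, IsLocalization.map_units S c, by rw [mul_comm]; exact hc⟩)
  let q₀ := RingHom.ker (algebraMap SW.Ring S)
  haveI : q₀.IsPrime := RingHom.ker_isPrime _
  have hle : ∀ q : Ideal SW.Ring, q.IsPrime → q ≤ s₀ → q₀ ≤ q := fun q hq hqs b hb => by
    obtain ⟨c, hc⟩ := (IsLocalization.map_eq_zero_iff s₀.primeCompl S b).1 hb
    exact (hq.mem_or_mem (hc ▸ q.zero_mem : (c : SW.Ring) * b ∈ q)).resolve_left fun h => c.2 (hqs h)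
  have h0 : q₀.under W = q₁.under W := by
    rw [hbot, eq_bot_iff, ← hbot]
    exact Ideal.comap_mono (hle q₁ inferInstance h₁)
  rw [← Algebra.QuasiFinite.eq_of_le_of_under_eq q₀ q₁ (hle q₁ inferInstance h₁) h0]
  exact hle q₂ inferInstance h₂

/-- Over a valuation ring a prime over the generic point below a prime generic in the special fibre is
generic. -/
theorem under_eq_bot_of_generic {V σ : Type u} [CommRing V] [IsDomain V] [ValuationRing V] {E : Type u}
    [CommRing E] [Algebra (MvPolynomial σ V) E] (q s : Ideal E) [q.IsPrime] (hle : q ≤ s)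
    (hs : s.under (MvPolynomial σ V) = (IsLocalRing.maximalIdeal V).map MvPolynomial.C)
    (hq : q.comap ((algebraMap (MvPolynomial σ V) E).comp MvPolynomial.C) = ⊥) :
    q.under (MvPolynomial σ V) = ⊥ := by
  classical
  rw [eq_bot_iff]
  intro G hG
  rw [Ideal.mem_bot]
  by_contra hne
  obtain ⟨m₀, hm₀, hdvd⟩ := Unibranch.exists_dvd_forall G.support (MvPolynomial.support_nonempty.mpr hne)
    fun m ↦ G.coeff m
  obtain ⟨G₁, hG₁⟩ : MvPolynomial.C (G.coeff m₀) ∣ G := (MvPolynomial.C_dvd_iff_dvd_coeff _ G).mpr fun i ↦ by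
    by_cases hi : i ∈ G.support
    · exact hdvd i hi
    · rw [MvPolynomial.notMem_support_iff.mp hi]; exact dvd_zero _
  have hc : G.coeff m₀ ≠ 0 := MvPolynomial.mem_support_iff.mp hm₀
  have h1 : G₁.coeff m₀ = 1 := by
    have := congrArg (MvPolynomial.coeff m₀) hG₁
    rw [MvPolynomial.coeff_C_mul] at this
    exact mul_left_cancel₀ hc (this.symm.trans (mul_one _).symm)
  rw [Ideal.mem_comap, hG₁, map_mul] at hG
  rcases (inferInstance : q.IsPrime).mem_or_mem hG with h | h
  · exact hc ((Ideal.mem_bot).1 (hq.le (show G.coeff m₀ ∈ q.comap _ from h)))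
  · have h2 := MvPolynomial.mem_map_C_iff.1 (hs.le (show G₁ ∈ s.under _ from hle h)) m₀
    rw [h1] at h2
    exact (IsLocalRing.maximalIdeal.isMaximal V).ne_top ((Ideal.eq_top_iff_one _).2 h2)

variable {A B : Type u} [CommRing A] [CommRing B] [Algebra A B] {σ : Type u} [Finite σ]

/-- A valuation ring realising a specialisation. -/
theorem exists_valuation {E : Type u} [CommRing E] (Q Pt : Ideal E) [Q.IsPrime] [Pt.IsPrime] (h : Q ≤ Pt) :
    ∃ (V : Type u) (_ : CommRing V) (_ : IsDomain V) (_ : ValuationRing V) (g : E →+* V),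
      (∀ e, g e = 0 → e ∈ Q) ∧ (IsLocalRing.maximalIdeal V).comap g = Pt := by
  let K := FractionRing (E ⧸ Q)
  have hkerK : ∀ e : E, algebraMap E K e = 0 ↔ e ∈ Q := fun a ↦ by
    rw [IsScalarTower.algebraMap_apply E (E ⧸ Q) K,
      map_eq_zero_iff _ (IsFractionRing.injective (E ⧸ Q) K), Ideal.Quotient.algebraMap_eq,
      Ideal.Quotient.eq_zero_iff_mem]
  have hunit : ∀ s : Pt.primeCompl, IsUnit (algebraMap E K s) := fun s ↦
    IsUnit.mk0 _ fun h0 ↦ s.2 (h ((hkerK _).mp h0))
  let fK : Localization.AtPrime Pt →+* K := IsLocalization.lift (M := Pt.primeCompl) hunit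
  obtain ⟨Vs, hmem, hloc⟩ := IsLocalRing.exists_factor_valuationRing fK
  let g : E →+* Vs := (fK.codRestrict Vs.toSubring hmem).comp (algebraMap E (Localization.AtPrime Pt))
  refine ⟨Vs, inferInstance, inferInstance, inferInstance, g, fun e he => (hkerK e).1 ?_, ?_⟩
  · rw [← IsLocalization.lift_eq (S := Localization.AtPrime Pt) hunit e]
    exact congrArg Subtype.val he
  · have : IsLocalHom (fK.codRestrict Vs.toSubring hmem) := hloc
    exact (Ideal.comap_comap _ _).symm.trans
      (by rw [IsLocalRing.maximalIdeal_comap]; exact IsLocalization.AtPrime.under_maximalIdeal _ Pt)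

section
attribute [local instance] MvPolynomial.algebraMvPolynomial

variable {V : Type u} [CommRing V] [IsDomain V] [ValuationRing V] [Algebra A V]

omit [Finite σ] [IsDomain V] [ValuationRing V] in
theorem algebraMap_poly (r : MvPolynomial σ A) :
    algebraMap (MvPolynomial σ A) (MvPolynomial σ V) r = MvPolynomial.map (algebraMap A V) r := rfl

omit [Finite σ] in
/-- The prime of a base change generic in the special fibre lifts to a prime over the generic point. -/
theorem exists_lift (t : σ → B) (SP : StandardEtalePair (MvPolynomial σ A)) (f : B)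
    (φ : SP.Ring →+* Localization.Away f) (hφ : Function.Surjective φ)
    (hφR : ∀ r, φ (algebraMap (MvPolynomial σ A) SP.Ring r) = algebraMap B (Localization.Away f) (MvPolynomial.aeval t r))
    (P : Ideal B) [P.IsPrime] (hf : f ∉ P)
    (H : ∀ (P' : PrimeSpectrum (V ⊗[A] B)),
      P'.asIdeal.comap (Algebra.TensorProduct.includeRight : B →ₐ[A] V ⊗[A] B).toRingHom = P →
      ∃ Q', Q'.IsPrime ∧ Q' ≤ P'.asIdeal ∧ Q'.comap (algebraMap V (V ⊗[A] B)) = ⊥)
    (ι : SP.Ring →+* (SP.map (algebraMap (MvPolynomial σ A) (MvPolynomial σ V))).Ring)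
    (hιR : ∀ r, ι (algebraMap (MvPolynomial σ A) SP.Ring r) = algebraMap (MvPolynomial σ V) _
      (algebraMap (MvPolynomial σ A) (MvPolynomial σ V) r))
    (hιX : ι SP.X = (SP.map (algebraMap (MvPolynomial σ A) (MvPolynomial σ V))).X)
    (s₁ : Ideal (SP.map (algebraMap (MvPolynomial σ A) (MvPolynomial σ V))).Ring) [s₁.IsPrime]
    (hs₁E : s₁.comap ι = (P.map (algebraMap B (Localization.Away f))).comap φ)
    (hs₁W : s₁.under (MvPolynomial σ V) = (IsLocalRing.maximalIdeal V).map MvPolynomial.C) :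
    ∃ q₁ : Ideal (SP.map (algebraMap (MvPolynomial σ A) (MvPolynomial σ V))).Ring, q₁.IsPrime ∧ q₁ ≤ s₁ ∧
      q₁.under (MvPolynomial σ V) = ⊥ ∧ RingHom.ker φ ≤ q₁.comap ι := by
  classical
  let R := MvPolynomial σ A
  let E := SP.Ring
  let Bf := Localization.Away f
  let W := MvPolynomial σ V
  let SW := SP.map (algebraMap R W)
  let EW := SW.Ring
  have hdisj : Disjoint (Submonoid.powers f : Set B) P := Set.disjoint_left.2 fun x ⟨n, hn⟩ hx =>
    hf ((inferInstance : P.IsPrime).mem_of_pow_mem n (by rw [show f ^ n = x from hn]; exact hx))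
  let Pf : Ideal Bf := P.map (algebraMap B Bf)
  have hPf : Pf.comap (algebraMap B Bf) = P :=
    IsLocalization.under_map_of_isPrime_disjoint (Submonoid.powers f) Bf inferInstance hdisj
  have hkerι : RingHom.ker φ ≤ s₁.comap ι := by
    rw [hs₁E]
    exact fun e he => by show φ e ∈ Pf; rw [RingHom.mem_ker.1 he]; exact zero_mem _
  -- the field point `s₁` as a point of `V ⊗ B`
  let F := FractionRing (EW ⧸ s₁)
  let π : EW →+* F := algebraMap _ _
  have hπ : ∀ x, π x = 0 ↔ x ∈ s₁ := fun x => by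
    show algebraMap EW F x = 0 ↔ _
    rw [IsScalarTower.algebraMap_apply EW (EW ⧸ s₁) F, map_eq_zero_iff _ (IsFractionRing.injective (EW ⧸ s₁) F),
      Ideal.Quotient.algebraMap_eq, Ideal.Quotient.eq_zero_iff_mem]
  let χf : Bf →+* F := φ.liftOfSurjective hφ ⟨π.comp ι, fun e he => (hπ _).2 (hkerι he)⟩
  have hχf : ∀ e, χf (φ e) = π (ι e) := fun e => RingHom.liftOfRightInverse_comp_apply _ _ _ _ e
  let cW : V →+* EW := (algebraMap W EW).comp MvPolynomial.C
  letI : Algebra A F := (π.comp (cW.comp (algebraMap A V))).toAlgebra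
  let pV : V →ₐ[A] F := { π.comp cW with commutes' := fun _ => rfl }
  let pB : B →ₐ[A] F :=
    { χf.comp (algebraMap B Bf) with
      commutes' := fun a => by
        show χf (algebraMap B Bf (algebraMap A B a)) = π (cW (algebraMap A V a))
        rw [← MvPolynomial.aeval_C t a, ← hφR, hχf, hιR, algebraMap_poly, MvPolynomial.map_C]
        rfl }
  let Ψ : V ⊗[A] B →ₐ[A] F := Algebra.TensorProduct.lift pV pB fun _ _ ↦ .all _ _
  have hΨinc : ∀ b : B, Ψ (1 ⊗ₜ b) = χf (algebraMap B Bf b) := fun b => by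
    rw [Algebra.TensorProduct.lift_tmul, map_one, one_mul]; rfl
  let P' : PrimeSpectrum (V ⊗[A] B) := ⟨RingHom.ker Ψ.toRingHom, RingHom.ker_isPrime _⟩
  have hP'P : P'.asIdeal.comap (Algebra.TensorProduct.includeRight : B →ₐ[A] V ⊗[A] B).toRingHom = P := by
    ext b
    obtain ⟨e, he⟩ := hφ (algebraMap B Bf b)
    show Ψ (1 ⊗ₜ b) = 0 ↔ b ∈ P
    rw [hΨinc, ← he, hχf, hπ, ← hPf, Ideal.mem_comap, ← he]
    exact SetLike.ext_iff.1 hs₁E e
  obtain ⟨Q', hQ'p, hQ'le, hQ'V⟩ := H P' hP'P
  -- the common ring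
  let fT : V ⊗[A] B := 1 ⊗ₜ f
  let L := Localization.Away fT
  have hfT : fT ∉ P'.asIdeal := fun h => hf (hP'P.le h)
  have hdT : Disjoint (Submonoid.powers fT : Set (V ⊗[A] B)) Q' := Set.disjoint_left.2 fun x ⟨n, hn⟩ hx =>
    hfT (P'.isPrime.mem_of_pow_mem n (hQ'le (by rw [show fT ^ n = x from hn]; exact hx)))
  let toL : V ⊗[A] B →+* L := algebraMap _ L
  let inB : B →+* L := toL.comp (Algebra.TensorProduct.includeRight : B →ₐ[A] V ⊗[A] B).toRingHom
  have hinBf : IsUnit (inB f) := IsLocalization.Away.algebraMap_isUnit fT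
  let inBf : Bf →+* L := IsLocalization.Away.lift f hinBf
  have hinBfe : ∀ b, inBf (algebraMap B Bf b) = inB b := fun b => IsLocalization.Away.lift_eq f hinBf b
  let aW : W →+* L := MvPolynomial.eval₂Hom (toL.comp Algebra.TensorProduct.includeLeftRingHom) fun i => inB (t i)
  have hRL : ∀ r : R, aW (algebraMap R W r) = inBf (φ (algebraMap R E r)) := fun r => by
    rw [hφR, hinBfe, algebraMap_poly]
    refine RingHom.congr_fun (MvPolynomial.ringHom_ext (f := aW.comp (MvPolynomial.map (algebraMap A V)))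
      (g := inB.comp (MvPolynomial.aeval (R := A) t).toRingHom) (fun a => ?_) (fun i => ?_)) r
    · show aW (MvPolynomial.map (algebraMap A V) (MvPolynomial.C a)) = inB (MvPolynomial.aeval t (MvPolynomial.C a))
      rw [MvPolynomial.map_C, MvPolynomial.aeval_C]
      refine (MvPolynomial.eval₂Hom_C _ _ _).trans ?_
      exact congrArg toL (((Algebra.TensorProduct.includeLeft (S := A) : V →ₐ[A] V ⊗[A] B).commutes a).trans
        ((Algebra.TensorProduct.includeRight : B →ₐ[A] V ⊗[A] B).commutes a).symm)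
    · show aW (MvPolynomial.map (algebraMap A V) (MvPolynomial.X i)) = inB (MvPolynomial.aeval t (MvPolynomial.X i))
      rw [MvPolynomial.map_X, MvPolynomial.aeval_X]
      exact MvPolynomial.eval₂Hom_X' _ _ _
  letI : Algebra W L := aW.toAlgebra
  letI : Algebra R L := (aW.comp (algebraMap R W)).toAlgebra
  haveI : IsScalarTower R W L := IsScalarTower.of_algebraMap_eq' rfl
  let φL : E →ₐ[R] L := { inBf.comp φ with commutes' := fun r => (hRL r).symm }
  let Φ : EW →ₐ[W] L := SW.lift (φL SP.X) (SP.hasMap_X.map φL).map_algebraMap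
  have hΦι : ∀ e, Φ (ι e) = inBf (φ e) := fun e => by
    let a₁ : E →ₐ[R] L :=
      { Φ.toRingHom.comp ι with commutes' := fun r => (congrArg Φ (hιR r)).trans (Φ.commutes _) }
    have : a₁ = φL := StandardEtalePair.hom_ext (by
      show Φ (ι SP.X) = φL SP.X
      rw [hιX]
      exact SW.lift_X _ _)
    exact DFunLike.congr_fun this e
  -- compatibility with `π`
  let ΨL : L →+* F := IsLocalization.Away.lift fT (g := Ψ.toRingHom) (IsUnit.mk0 _ hfT)
  have hΨL : ∀ z, ΨL (toL z) = Ψ z := fun z => IsLocalization.Away.lift_eq fT _ z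
  have hΨBf : ΨL.comp inBf = χf := IsLocalization.ringHom_ext (Submonoid.powers f) (RingHom.ext fun b => by
    rw [RingHom.comp_apply, RingHom.comp_apply, hinBfe]
    exact (hΨL _).trans (hΨinc b))
  have hπΦ : ∀ x, ΨL (Φ x) = π x := by
    have hW : ΨL.comp aW = π.comp (algebraMap W EW) := by
      refine MvPolynomial.ringHom_ext (fun v => ?_) (fun i => ?_)
      · show ΨL (aW (MvPolynomial.C v)) = π (cW v)
        rw [show aW (MvPolynomial.C v) = toL (v ⊗ₜ 1) from MvPolynomial.eval₂Hom_C _ _ _, hΨL]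
        exact (Algebra.TensorProduct.lift_tmul _ _ _ v 1).trans (by rw [map_one, mul_one]; rfl)
      · show ΨL (aW (MvPolynomial.X i)) = π (algebraMap W EW (MvPolynomial.X i))
        rw [show aW (MvPolynomial.X i) = inB (t i) from MvPolynomial.eval₂Hom_X' _ _ _, ← hinBfe,
          ← RingHom.comp_apply, hΨBf, ← MvPolynomial.aeval_X (R := A) t i, ← hφR, hχf, hιR,
          algebraMap_poly, MvPolynomial.map_X]
    letI : Algebra W F := (π.comp (algebraMap W EW)).toAlgebra
    let a₁ : EW →ₐ[W] F :=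
      { ΨL.comp Φ.toRingHom with commutes' := fun w => (congrArg ΨL (Φ.commutes w)).trans (RingHom.congr_fun hW w) }
    let a₂ : EW →ₐ[W] F := { π with commutes' := fun _ => rfl }
    have : a₁ = a₂ := StandardEtalePair.hom_ext (by
      show ΨL (Φ SW.X) = π SW.X
      rw [← hιX, hΦι, ← RingHom.comp_apply, hΨBf, hχf])
    exact fun x => DFunLike.congr_fun this x
  let QL : Ideal L := Q'.map toL
  haveI : QL.IsPrime := IsLocalization.isPrime_of_isPrime_disjoint (Submonoid.powers fT) L Q' hQ'p hdT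
  have hQL : QL.comap toL = Q' :=
    IsLocalization.under_map_of_isPrime_disjoint (Submonoid.powers fT) L hQ'p hdT
  let q₁ : Ideal EW := QL.comap Φ.toRingHom
  have hq₁s : q₁ ≤ s₁ := fun x hx => by
    rw [← hπ, ← hπΦ]
    have : QL ≤ RingHom.ker ΨL := Ideal.map_le_iff_le_comap.2 fun z hz => by
      show ΨL (toL z) = 0
      rw [hΨL]; exact hQ'le hz
    exact this hx
  refine ⟨q₁, inferInstance, hq₁s, under_eq_bot_of_generic q₁ s₁ hq₁s hs₁W ?_, fun e he => ?_⟩
  · rw [← hQ'V]
    ext v
    show Φ (algebraMap W EW (MvPolynomial.C v)) ∈ QL ↔ _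
    rw [AlgHom.commutes, show algebraMap W L (MvPolynomial.C v) = toL (v ⊗ₜ 1) from MvPolynomial.eval₂Hom_C _ _ _,
      ← Ideal.mem_comap, hQL]
    rfl
  · show Φ (ι e) ∈ QL
    rw [hΦι, RingHom.mem_ker.1 he, map_zero]
    exact zero_mem _

set_option maxHeartbeats 1600000 in
/-- The kernel of an étale neighbourhood surjection vanishes under every valuation centred at a point of
universal openness which is generic in its fibre. -/
theorem apply_eq_zero (t : σ → B) (SP : StandardEtalePair (MvPolynomial σ A)) (f : B)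
    (φ : SP.Ring →+* Localization.Away f) (hφ : Function.Surjective φ)
    (hφR : ∀ r, φ (algebraMap (MvPolynomial σ A) SP.Ring r) = algebraMap B (Localization.Away f) (MvPolynomial.aeval t r))
    (P : Ideal B) [P.IsPrime] (hf : f ∉ P)
    (ht : P.comap (MvPolynomial.aeval (R := A) t).toRingHom = (P.under A).map MvPolynomial.C)
    (H : ∀ (P' : PrimeSpectrum (V ⊗[A] B)),
      P'.asIdeal.comap (Algebra.TensorProduct.includeRight : B →ₐ[A] V ⊗[A] B).toRingHom = P →
      ∃ Q', Q'.IsPrime ∧ Q' ≤ P'.asIdeal ∧ Q'.comap (algebraMap V (V ⊗[A] B)) = ⊥)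
    (g : SP.Ring →+* V) (hgA : ∀ a, g (algebraMap (MvPolynomial σ A) SP.Ring (MvPolynomial.C a)) = algebraMap A V a)
    (hgm : (IsLocalRing.maximalIdeal V).comap g = (P.map (algebraMap B (Localization.Away f))).comap φ)
    (e : SP.Ring) (he : φ e = 0) : g e = 0 := by
  classical
  let R := MvPolynomial σ A
  let E := SP.Ring
  let Bf := Localization.Away f
  have hdisj : Disjoint (Submonoid.powers f : Set B) P := Set.disjoint_left.2 fun x ⟨n, hn⟩ hx =>
    hf ((inferInstance : P.IsPrime).mem_of_pow_mem n (by rw [show f ^ n = x from hn]; exact hx))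
  let Pf : Ideal Bf := P.map (algebraMap B Bf)
  haveI : Pf.IsPrime := IsLocalization.isPrime_of_isPrime_disjoint (Submonoid.powers f) Bf P inferInstance hdisj
  have hPf : Pf.comap (algebraMap B Bf) = P :=
    IsLocalization.under_map_of_isPrime_disjoint (Submonoid.powers f) Bf inferInstance hdisj
  let Pt : Ideal E := Pf.comap φ
  have hPtR : Pt.under R = (P.under A).map MvPolynomial.C := by
    rw [← ht]
    ext r
    show φ (algebraMap R E r) ∈ Pf ↔ MvPolynomial.aeval t r ∈ P
    rw [hφR, ← Ideal.mem_comap, hPf]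
  have hmA : (IsLocalRing.maximalIdeal V).comap (algebraMap A V) = P.under A := by
    ext a
    rw [Ideal.mem_comap, ← hgA, ← Ideal.mem_comap, hgm]
    show φ (algebraMap R E (MvPolynomial.C a)) ∈ Pf ↔ algebraMap A B a ∈ P
    rw [hφR, MvPolynomial.aeval_C, ← Ideal.mem_comap, hPf]
  let W := MvPolynomial σ V
  haveI : IsIntegrallyClosed W := Unibranch.isIntegrallyClosed_mvPolynomial σ
  let SW := SP.map (algebraMap R W)
  let EW := SW.Ring
  letI : Algebra R EW := ((algebraMap W EW).comp (algebraMap R W)).toAlgebra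
  haveI : IsScalarTower R W EW := IsScalarTower.of_algebraMap_eq' rfl
  have hSW : SP.HasMap (SW.X : EW) := by
    have h := SW.hasMap_X
    exact ⟨by rw [← Polynomial.aeval_map_algebraMap W]; exact h.1, by rw [← Polynomial.aeval_map_algebraMap W]; exact h.2⟩
  let ι : E →ₐ[R] EW := SP.lift SW.X hSW
  let evV : W →+* V := MvPolynomial.eval₂Hom (RingHom.id V) fun i => g (algebraMap R E (MvPolynomial.X i))
  have hev : evV.comp (MvPolynomial.map (algebraMap A V)) = g.comp (algebraMap R E) := by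
    refine MvPolynomial.ringHom_ext (fun a => ?_) (fun i => ?_)
    · rw [RingHom.comp_apply, RingHom.comp_apply, MvPolynomial.map_C, hgA]
      exact MvPolynomial.eval₂Hom_C _ _ _
    · rw [RingHom.comp_apply, RingHom.comp_apply, MvPolynomial.map_X]
      exact MvPolynomial.eval₂Hom_X' _ _ _
  letI : Algebra R V := (g.comp (algebraMap R E)).toAlgebra
  letI : Algebra W V := evV.toAlgebra
  haveI : IsScalarTower R W V := IsScalarTower.of_algebraMap_eq' hev.symm
  let gₐ : E →ₐ[R] V := { g with commutes' := fun _ => rfl }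
  let σ₀ : EW →ₐ[W] V := SW.lift (gₐ SP.X) (SP.hasMap_X.map gₐ).map_algebraMap
  have hσι : ∀ e, σ₀ (ι e) = g e := fun e => by
    have : (σ₀.restrictScalars R).comp ι = gₐ := StandardEtalePair.hom_ext (by
      show σ₀ (ι SP.X) = gₐ SP.X
      rw [show ι SP.X = SW.X from SP.lift_X _ hSW]
      exact SW.lift_X _ _)
    exact DFunLike.congr_fun this e
  let s₀ : Ideal EW := (IsLocalRing.maximalIdeal V).comap σ₀.toRingHom
  let cW : V →+* EW := (algebraMap W EW).comp MvPolynomial.C
  have hcW : ∀ v : V, σ₀ (cW v) = v := fun v => (σ₀.commutes _).trans (MvPolynomial.eval₂Hom_C _ _ _)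
  let mC : Ideal W := (IsLocalRing.maximalIdeal V).map MvPolynomial.C
  haveI : mC.IsPrime := by
    show ((IsLocalRing.maximalIdeal V).map (MvPolynomial.C : V →+* W)).IsPrime
    rw [← Ideal.mk_ker (I := IsLocalRing.maximalIdeal V), ← MvPolynomial.ker_map]
    exact RingHom.ker_isPrime _
  have hm₀ : mC.map (algebraMap W EW) ≤ s₀ := by
    rw [Ideal.map_map, Ideal.map_le_iff_le_comap]
    exact fun v hv => show σ₀ (cW v) ∈ _ by rw [hcW]; exact hv
  obtain ⟨s₁, hs₁, hs₁₀⟩ := Ideal.exists_minimalPrimes_le hm₀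
  haveI : s₁.IsPrime := hs₁.1.1
  have hs₁W : s₁.under W = mC := by
    obtain ⟨Q₁, hQ₁le, hQ₁p, hQ₁⟩ := Ideal.exists_ideal_le_liesOver_of_le (p := mC) (q := s₁.under W) s₁
      (Ideal.map_le_iff_le_comap.1 hs₁.1.2)
    have : Q₁ = s₁ := le_antisymm hQ₁le (hs₁.2 ⟨hQ₁p, Ideal.map_le_iff_le_comap.2 hQ₁.over.le⟩ hQ₁le)
    rw [← this]
    exact hQ₁.over.symm
  have hs₁E : s₁.comap ι.toRingHom = Pt := by
    have hle : s₁.comap ι.toRingHom ≤ Pt := fun e he => by
      show e ∈ Pf.comap φ
      rw [← hgm, Ideal.mem_comap, ← hσι]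
      exact hs₁₀ he
    refine Algebra.QuasiFinite.eq_of_le_of_under_eq (R := R) _ _ hle ?_
    rw [hPtR, ← hmA]
    ext r
    show ι (algebraMap R E r) ∈ s₁ ↔ _
    rw [AlgHom.commutes, IsScalarTower.algebraMap_apply R W EW, ← Ideal.mem_comap]
    show _ ∈ s₁.under W ↔ _
    rw [hs₁W, MvPolynomial.mem_map_C_iff, MvPolynomial.mem_map_C_iff]
    exact forall_congr' fun i => by rw [algebraMap_poly, MvPolynomial.coeff_map]; rfl
  obtain ⟨q₁, hq₁, hq₁s, hq₁W, hker⟩ := exists_lift t SP f φ hφ hφR P hf H ι.toRingHom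
    (fun r => ι.commutes r) (SP.lift_X _ hSW) s₁ hs₁E hs₁W
  haveI : (RingHom.ker σ₀.toRingHom).IsPrime := RingHom.ker_isPrime _
  have hq₁σ : q₁ ≤ RingHom.ker σ₀.toRingHom := le_of_normal SW s₀ q₁ _ (hq₁s.trans hs₁₀)
    (Ideal.comap_mono bot_le) hq₁W
  rw [← hσι]
  exact hq₁σ (hker he)

end

end Groth.Agent.UOFlat
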