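import Groth.Agent.UOFlat.Coords
import Groth.Agent.UOFlat.Generic

/-!
# Flatness at maximal points of reduced fibres of universally open morphisms, affine form
-/

set_option autoImplicit false
set_option linter.style.haveILetI false
universe u
open TensorProduct

namespace Groth.Agent.UOFlat

theorem ringHom_ext_residueField {A K : Type u} [CommRing A] [Field K] (p : Ideal A) [p.IsPrime]
    {f g : p.ResidueField →+* K} (h : ∀ a, f (algebraMap A p.ResidueField a) = g (algebraMap A p.ResidueField a)) :
    f = g := by
  refine IsLocalization.ringHom_ext (nonZeroDivisors (A ⧸ p)) (RingHom.ext fun x => ?_)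
  obtain ⟨a, rfl⟩ := Ideal.Quotient.mk_surjective x
  exact h a

theorem exists_div {B : Type u} [CommRing B] (P : Ideal B) [P.IsPrime] (x : P.ResidueField) :
    ∃ b s : B, x = algebraMap B P.ResidueField b / algebraMap B P.ResidueField s := by
  obtain ⟨n, d, -, h⟩ := IsFractionRing.div_surjective (A := B ⧸ P) x
  obtain ⟨b, rfl⟩ := Ideal.Quotient.mk_surjective n
  obtain ⟨s, rfl⟩ := Ideal.Quotient.mk_surjective d
  exact ⟨b, s, h.symm⟩

variable {A B : Type u} [CommRing A] [CommRing B] [Algebra A B] {σ : Type u}

theorem comap_aeval_eq [Finite σ] (t : σ → B) (P : Ideal B) [P.IsPrime]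
    [Algebra (P.under A).ResidueField P.ResidueField] [IsScalarTower A (P.under A).ResidueField P.ResidueField]
    (hind : AlgebraicIndependent (P.under A).ResidueField fun i => algebraMap B P.ResidueField (t i)) :
    P.comap (MvPolynomial.aeval (R := A) t).toRingHom = (P.under A).map MvPolynomial.C := by
  ext F
  rw [MvPolynomial.mem_map_C_iff, Ideal.mem_comap]
  have key : algebraMap B P.ResidueField (MvPolynomial.aeval t F) =
      MvPolynomial.aeval (fun i => algebraMap B P.ResidueField (t i))
        (MvPolynomial.map (algebraMap A (P.under A).ResidueField) F) := by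
    rw [← MvPolynomial.aeval_algebraMap_apply]
    exact (MvPolynomial.aeval_map_algebraMap _ _ F).symm
  show MvPolynomial.aeval t F ∈ P ↔ _
  rw [← Ideal.algebraMap_residueField_eq_zero, key, map_eq_zero_iff _ hind, MvPolynomial.ext_iff]
  exact forall_congr' fun m => by rw [MvPolynomial.coeff_map, MvPolynomial.coeff_zero, Ideal.algebraMap_residueField_eq_zero]

set_option maxHeartbeats 1600000 in
/-- Separating coordinates at a point with reduced local ring of the fibre make the point unramified. -/
theorem isUnramifiedAt_of_coords [Algebra.FiniteType A B] (P : Ideal B) [P.IsPrime]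
    [Algebra (P.under A).ResidueField P.ResidueField] [IsScalarTower A (P.under A).ResidueField P.ResidueField]
    (hfib : (P.under A).map (algebraMap A (Localization.AtPrime P)) = IsLocalRing.maximalIdeal (Localization.AtPrime P))
    (t : σ → B)
    (hunr : ∀ (L : Type u) [Field L] [Algebra (P.under A).ResidueField L] [Algebra L P.ResidueField]
      [IsScalarTower (P.under A).ResidueField L P.ResidueField],
      (∀ i, algebraMap B P.ResidueField (t i) ∈ Set.range (algebraMap L P.ResidueField)) →
        Algebra.FormallyUnramified L P.ResidueField)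
    [Finite σ] :
    letI := (MvPolynomial.aeval (R := A) t).toRingHom.toAlgebra
    Algebra.IsUnramifiedAt (MvPolynomial σ A) P := by
  let R := MvPolynomial σ A
  letI : Algebra R B := (MvPolynomial.aeval (R := A) t).toRingHom.toAlgebra
  haveI : IsScalarTower A R B := IsScalarTower.of_algebraMap_eq' (MvPolynomial.aeval (R := A) t).comp_algebraMap.symm
  haveI : Algebra.FiniteType R B := Algebra.FiniteType.of_restrictScalars_finiteType A R B
  let Θ := P.under R
  letI := Localization.AtPrime.algebraOfLiesOver Θ P
  have hΘ : (P.under A) = Θ.comap (algebraMap A R) := (Ideal.under_under (B := R) P).symm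
  rw [Algebra.isUnramifiedAt_iff_map_eq R Θ P]
  refine ⟨?_, le_antisymm ?_ ?_⟩
  · letI : Algebra (P.under A).ResidueField Θ.ResidueField :=
      (Ideal.ResidueField.map (P.under A) Θ (algebraMap A R) hΘ).toAlgebra
    have hL : ∀ r : R, algebraMap Θ.ResidueField P.ResidueField (algebraMap R _ r) =
        algebraMap B P.ResidueField (algebraMap R B r) := fun r => by
      rw [← IsScalarTower.algebraMap_apply R Θ.ResidueField P.ResidueField,
        ← IsScalarTower.algebraMap_apply R B P.ResidueField]
    haveI : IsScalarTower (P.under A).ResidueField Θ.ResidueField P.ResidueField :=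
      IsScalarTower.of_algebraMap_eq' (ringHom_ext_residueField _ fun a => by
        rw [← IsScalarTower.algebraMap_apply A (P.under A).ResidueField P.ResidueField, RingHom.comp_apply,
          show algebraMap (P.under A).ResidueField Θ.ResidueField (algebraMap A _ a) =
            algebraMap R Θ.ResidueField (algebraMap A R a) from Ideal.ResidueField.map_algebraMap _ _ _ hΘ a,
          hL, ← IsScalarTower.algebraMap_apply A R B, ← IsScalarTower.algebraMap_apply A B P.ResidueField])
    haveI := hunr Θ.ResidueField fun i => ⟨algebraMap R _ (MvPolynomial.X i), by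
      rw [hL]; exact congrArg _ (MvPolynomial.aeval_X t i)⟩
    exact Algebra.FormallyUnramified.isSeparable _ _
  · rw [Ideal.map_le_iff_le_comap]
    intro r hr
    rw [Ideal.mem_comap, IsScalarTower.algebraMap_apply R B (Localization.AtPrime P),
      IsLocalization.AtPrime.to_map_mem_maximal_iff _ P]
    exact hr
  · rw [← hfib, IsScalarTower.algebraMap_eq A R (Localization.AtPrime P), ← Ideal.map_map]
    exact Ideal.map_mono (Ideal.map_le_iff_le_comap.2 hΘ.le)

set_option maxHeartbeats 1600000 in
/-- **A universally open morphism of finite type over a reduced base is flat at a maximal point of a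
geometrically reduced fibre.** -/
theorem flat_atPrime_of_univOpen [_root_.IsReduced A] [Algebra.FiniteType A B] (P : Ideal B) [P.IsPrime]
    [Algebra (P.under A).ResidueField P.ResidueField] [IsScalarTower A (P.under A).ResidueField P.ResidueField]
    [Algebra.FormallySmooth (P.under A).ResidueField P.ResidueField]
    (hfib : (P.under A).map (algebraMap A (Localization.AtPrime P)) = IsLocalRing.maximalIdeal (Localization.AtPrime P))
    (H : ∀ (V : Type u) [CommRing V] [IsDomain V] [Algebra A V] (P' : PrimeSpectrum (V ⊗[A] B)),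
      P'.asIdeal.comap (Algebra.TensorProduct.includeRight : B →ₐ[A] V ⊗[A] B).toRingHom = P →
      ∃ Q', Q'.IsPrime ∧ Q' ≤ P'.asIdeal ∧ Q'.comap (algebraMap V (V ⊗[A] B)) = ⊥) :
    Module.Flat A (Localization.AtPrime P) := by
  classical
  haveI : Algebra.EssFiniteType A P.ResidueField := Algebra.EssFiniteType.comp A B P.ResidueField
  haveI : Algebra.EssFiniteType (P.under A).ResidueField P.ResidueField := Algebra.EssFiniteType.of_comp A _ _
  obtain ⟨σ, _, t, hind, hunr⟩ := exists_coords (k := (P.under A).ResidueField) (algebraMap B P.ResidueField)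
    (exists_div P)
  have ht := comap_aeval_eq t P hind
  let R := MvPolynomial σ A
  letI : Algebra R B := (MvPolynomial.aeval (R := A) t).toRingHom.toAlgebra
  haveI : IsScalarTower A R B := IsScalarTower.of_algebraMap_eq' (MvPolynomial.aeval (R := A) t).comp_algebraMap.symm
  haveI : Algebra.FiniteType R B := Algebra.FiniteType.of_restrictScalars_finiteType A R B
  haveI : Algebra.IsUnramifiedAt R P := isUnramifiedAt_of_coords P hfib t hunr
  obtain ⟨f, hf, SP, φ, hφ⟩ := Algebra.IsUnramifiedAt.exists_hasStandardEtaleSurjectionOn (R := R) P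
  let Bf := Localization.Away f
  let E := SP.Ring
  let S := Localization.AtPrime P
  have hφR : ∀ r, φ.toRingHom (algebraMap R E r) = algebraMap B Bf (MvPolynomial.aeval t r) := fun r =>
    (φ.commutes r).trans (IsScalarTower.algebraMap_apply R B Bf r)
  have hdisj : Disjoint (Submonoid.powers f : Set B) P := Set.disjoint_left.2 fun x ⟨n, hn⟩ hx =>
    hf ((inferInstance : P.IsPrime).mem_of_pow_mem n (by rw [show f ^ n = x from hn]; exact hx))
  let Pf : Ideal Bf := P.map (algebraMap B Bf)
  haveI : Pf.IsPrime := IsLocalization.isPrime_of_isPrime_disjoint (Submonoid.powers f) Bf P inferInstance hdisj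
  have hPf : Pf.comap (algebraMap B Bf) = P :=
    IsLocalization.under_map_of_isPrime_disjoint (Submonoid.powers f) Bf inferInstance hdisj
  let Pt : Ideal E := Pf.comap φ.toRingHom
  let ET := Localization.AtPrime Pt
  letI : Algebra A E := ((algebraMap R E).comp (algebraMap A R)).toAlgebra
  haveI : IsScalarTower A R E := IsScalarTower.of_algebraMap_eq' rfl
  -- the kernel dies at `Pt`
  have hJ : ∀ e : E, φ e = 0 → algebraMap E ET e = 0 := by
    intro e he
    haveI : _root_.IsReduced E := by
      rw [← nilradical_eq_bot_iff, Hensel.nilradical_smooth R E, nilradical_eq_zero R]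
      exact Ideal.map_bot
    haveI : _root_.IsReduced ET := inferInstance
    refine IsNilpotent.eq_zero (mem_nilradical.1 ?_)
    rw [nilradical_eq_sInf]
    refine Ideal.mem_sInf.2 fun {Q} (hQ : Q.IsPrime) => ?_
    haveI := hQ
    obtain ⟨V, _, _, _, g, hg0, hgm⟩ := exists_valuation (Q.comap (algebraMap E ET)) Pt (fun x hx => by
      rw [← IsLocalization.AtPrime.under_maximalIdeal ET Pt]
      exact IsLocalRing.le_maximalIdeal hQ.ne_top hx)
    letI : Algebra A V := (g.comp (algebraMap A E)).toAlgebra
    exact hg0 e (apply_eq_zero t SP f φ.toRingHom hφ hφR P hf ht (fun P' hP' => H V P' hP') g (fun _ => rfl) hgm e he)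
  let χ : Bf →+* S := IsLocalization.Away.lift f
    (g := algebraMap B S) (IsLocalization.map_units S (⟨f, hf⟩ : P.primeCompl))
  have hχ : ∀ b, χ (algebraMap B Bf b) = algebraMap B S b := fun b => IsLocalization.Away.lift_eq f _ b
  have hmem : ∀ (b : B) (e : E), φ e = algebraMap B Bf b → (e ∈ Pt ↔ b ∈ P) := fun b e h => by
    show φ e ∈ Pf ↔ _
    rw [h, ← Ideal.mem_comap, hPf]
  have hunit : ∀ y : Pt.primeCompl, IsUnit ((χ.comp φ.toRingHom) y) := fun y => by
    obtain ⟨⟨b, s⟩, hs⟩ := IsLocalization.surj (Submonoid.powers f) (φ y)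
    have hb : b ∉ P := fun hb => y.2 (by
      show φ y ∈ Pf
      refine ((inferInstance : Pf.IsPrime).mem_or_mem (hs ▸ Ideal.mem_map_of_mem _ hb)).resolve_right fun h => ?_
      rw [← Ideal.mem_comap, hPf] at h
      exact Set.disjoint_left.1 hdisj s.2 h)
    have := congrArg χ hs
    rw [map_mul, hχ, hχ] at this
    exact isUnit_of_mul_isUnit_left (this ▸ IsLocalization.map_units S (⟨b, hb⟩ : P.primeCompl))
  let ψ : ET →ₐ[A] S :=
    { IsLocalization.lift hunit with
      commutes' := fun a => by
        show IsLocalization.lift hunit (algebraMap A ET a) = _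
        rw [IsScalarTower.algebraMap_apply A E ET, IsLocalization.lift_eq]
        show χ (φ.toRingHom (algebraMap R E (algebraMap A R a))) = _
        rw [hφR, hχ, MvPolynomial.algebraMap_eq, MvPolynomial.aeval_C,
          ← IsScalarTower.algebraMap_apply A B S] }
  have hψ : ∀ e, ψ (algebraMap E ET e) = χ (φ e) := fun e => IsLocalization.lift_eq hunit e
  have hbij : Function.Bijective ψ := by
    refine ⟨(injective_iff_map_eq_zero ψ).2 fun x hx => ?_, fun x => ?_⟩
    · obtain ⟨⟨e, s⟩, hs⟩ := IsLocalization.surj Pt.primeCompl x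
      refine ((IsLocalization.map_units ET s).mul_left_eq_zero).1 (hs.trans ?_)
      have h2 : χ (φ e) = 0 := by rw [← hψ, ← hs, map_mul, hx, zero_mul]
      obtain ⟨⟨b, c⟩, hc⟩ := IsLocalization.surj (Submonoid.powers f) (φ e)
      have h3 := congrArg χ hc
      rw [map_mul, h2, zero_mul, hχ, eq_comm] at h3
      obtain ⟨m, hm⟩ := (IsLocalization.map_eq_zero_iff P.primeCompl S b).1 h3
      obtain ⟨e', he'⟩ := hφ (algebraMap B Bf m)
      have h4 : φ (e' * e) = 0 := by
        rw [map_mul, he']
        refine ((IsLocalization.map_units Bf c).mul_left_eq_zero).1 ?_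
        rw [mul_assoc, hc, ← map_mul, hm, map_zero]
      have h5 := hJ _ h4
      rw [map_mul] at h5
      exact ((IsLocalization.map_units ET (⟨e', fun h => m.2 ((hmem m e' he').1 h)⟩ : Pt.primeCompl)).mul_right_eq_zero).1 h5
    · obtain ⟨⟨b, s⟩, hs⟩ := IsLocalization.surj P.primeCompl x
      obtain ⟨e, he⟩ := hφ (algebraMap B Bf b)
      obtain ⟨e', he'⟩ := hφ (algebraMap B Bf s)
      let y : Pt.primeCompl := ⟨e', fun h => s.2 ((hmem s e' he').1 h)⟩
      refine ⟨IsLocalization.mk' ET e y, (IsLocalization.map_units S s).mul_right_cancel ?_⟩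
      have h1 : ψ (algebraMap E ET e') = algebraMap B S s := by rw [hψ, he', hχ]
      rw [hs, ← h1, ← map_mul]
      show ψ (IsLocalization.mk' ET e y * algebraMap E ET (y : E)) = _
      rw [IsLocalization.mk'_spec, hψ, he, hχ]
  haveI : Module.Flat R E := inferInstance
  haveI : Module.Flat A E := Module.Flat.trans A R E
  haveI : Module.Flat E ET := IsLocalization.flat ET Pt.primeCompl
  haveI : Module.Flat A ET := Module.Flat.trans A E ET
  exact Module.Flat.of_linearEquiv (AlgEquiv.ofBijective ψ hbij).symm.toLinearEquiv

end Groth.Agent.UOFlat
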