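import Groth.Agent.CartierEq.Basic
import Mathlib

/-!
# Separating coordinates taken among given generators
-/

set_option autoImplicit false
set_option linter.style.haveILetI false
universe u
open KaehlerDifferential

namespace Groth.Agent.UOFlat

/-- A formally smooth finitely generated field extension has coordinates among given generators. -/
theorem exists_coords {k K B : Type u} [Field k] [Field K] [CommRing B] [Algebra k K]
    [Algebra.EssFiniteType k K] [Algebra.FormallySmooth k K] (χ : B →+* K)
    (hgen : ∀ x : K, ∃ b s : B, x = χ b / χ s) :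
    ∃ (σ : Type u) (_ : Finite σ) (t : σ → B), AlgebraicIndependent k (fun i => χ (t i)) ∧
      ∀ (L : Type u) [Field L] [Algebra k L] [Algebra L K] [IsScalarTower k L K],
        (∀ i, χ (t i) ∈ Set.range (algebraMap L K)) → Algebra.FormallyUnramified L K := by
  classical
  haveI hfinΩ : Module.Finite K (Ω[K⁄k]) := (CartierEq.cartier_equality k K).1
  obtain ⟨ι, a, hainj, hspan, hli⟩ := exists_linearIndependent' (K := K) fun b : B => D k K (χ b)
  have htop : Submodule.span K (Set.range ((fun b : B => D k K (χ b)) ∘ a)) = ⊤ := by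
    rw [hspan, eq_top_iff, ← span_range_derivation k K, Submodule.span_le]
    rintro _ ⟨x, rfl⟩
    obtain ⟨b, s, rfl⟩ := hgen x
    rw [div_eq_mul_inv, Derivation.leibniz, Derivation.leibniz_inv]
    refine add_mem (Submodule.smul_mem _ _ (Submodule.smul_mem _ _ ?_)) (Submodule.smul_mem _ _ ?_) <;>
      exact Submodule.subset_span ⟨_, rfl⟩
  haveI : Finite ι := hli.finite
  haveI : Fintype ι := Fintype.ofFinite ι
  let e := Module.Basis.mk hli htop.ge
  have hcard : Module.finrank K (Ω[K⁄k]) = Fintype.card ι := Module.finrank_eq_card_basis e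
  have hunr : ∀ (L : Type u) [Field L] [Algebra k L] [Algebra L K] [IsScalarTower k L K],
      (∀ i, χ (a i) ∈ Set.range (algebraMap L K)) → Algebra.FormallyUnramified L K := by
    intro L _ _ _ _ hL
    refine ⟨⟨fun z w => ?_⟩⟩
    suffices ∀ z : Ω[K⁄L], z = 0 by rw [this z, this w]
    intro z
    obtain ⟨z, rfl⟩ := KaehlerDifferential.map_surjective k L K z
    have : KaehlerDifferential.map k L K K = 0 := by
      refine e.ext fun i => ?_
      obtain ⟨l, hl⟩ := hL i
      rw [Module.Basis.mk_apply, Function.comp_apply, map_D, LinearMap.zero_apply,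
        show algebraMap K K (χ (a i)) = algebraMap L K l from hl.symm, Derivation.map_algebraMap]
    rw [this, LinearMap.zero_apply]
  refine ⟨ι, inferInstance, a, ?_, hunr⟩
  let L := IntermediateField.adjoin k (Set.range fun i => χ (a i))
  haveI := hunr L fun i => ⟨⟨_, IntermediateField.subset_adjoin k _ ⟨i, rfl⟩⟩, rfl⟩
  haveI : Algebra.EssFiniteType L K := Algebra.EssFiniteType.of_comp k L K
  haveI : Algebra.IsSeparable L K := Algebra.FormallyUnramified.isSeparable L K
  haveI : Algebra.IsAlgebraic (Algebra.adjoin k (Set.range fun i => χ (a i))) K :=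
    IntermediateField.isAlgebraic_adjoin_iff_top.1 (inferInstanceAs (Algebra.IsAlgebraic L K))
  refine (Algebra.IsAlgebraic.isTranscendenceBasis_of_le_trdeg_of_finite k (fun i => χ (a i)) ?_).1
  have h2 := (CartierEq.cartier_equality k K).2.2
  haveI : Subsingleton (Algebra.H1Cotangent k K) := inferInstance
  rw [Module.finrank_zero_of_subsingleton (M := Algebra.H1Cotangent k K), add_zero, hcard] at h2
  rw [Cardinal.mk_fintype, h2]
  exact Cardinal.natCast_toNat_le _

end Groth.Agent.UOFlat
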