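import Groth.Agent.UOFlat.Local
import Groth.Agent.UOFlat.GoingFibre
import Groth.Agent.FlatSpread.Sys
import Groth.Agent.FlatSpread.Fp

/-!
# Flatness from the maximal points of a geometrically reduced fibre, finitely presented algebras
-/

set_option autoImplicit false
set_option linter.style.haveILetI false
universe u
open CategoryTheory AlgebraicGeometry Limits MvPolynomial

namespace Groth.Agent.UOFlat
open FlatSpread GeomRedAt

/-- An ideal of a polynomial ring as a submodule of the free module of rank one. -/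
noncomputable abbrev Wk {n : ℕ} {R : Type u} [CommRing R] (K : Ideal (MvPolynomial (Fin n) R)) :
    Submodule (MvPolynomial (Fin n) R) (Fin 1 → MvPolynomial (Fin n) R) :=
  Submodule.comap (LinearEquiv.funUnique (Fin 1) (MvPolynomial (Fin n) R) (MvPolynomial (Fin n) R)).toLinearMap K

theorem flat_atPrime_iff_fl {R S : Type u} [CommRing R] [CommRing S] [Algebra R S] {n : ℕ}
    (π : MvPolynomial (Fin n) R →ₐ[R] S) (hπ : Function.Surjective π) (Q : Ideal S) [Q.IsPrime] :
    Module.Flat R (Localization.AtPrime Q) ↔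
      Fl (⊥ : Ideal R) (Q.comap π.toRingHom).primeCompl (Wk (RingHom.ker π.toRingHom)) := by
  letI : Module (MvPolynomial (Fin n) R) S := Module.compHom S π.toRingHom
  let g : (Fin 1 → MvPolynomial (Fin n) R) →ₗ[MvPolynomial (Fin n) R] S :=
    { toFun := fun x => π (x 0)
      map_add' := fun a b => map_add π _ _
      map_smul' := fun p x => map_mul π _ _ }
  have hgW : LinearMap.ker g = Wk (RingHom.ker π.toRingHom) := rfl
  let e : ((Fin 1 → MvPolynomial (Fin n) R) ⧸ Wk (RingHom.ker π.toRingHom)) ≃ₗ[MvPolynomial (Fin n) R] S :=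
    (Submodule.quotEquivOfEq _ _ hgW.symm).trans (g.quotKerEquivOfSurjective fun s =>
      let ⟨p, hp⟩ := hπ s; ⟨fun _ => p, hp⟩)
  have hmap : (Q.comap π.toRingHom).primeCompl.map π.toRingHom = Q.primeCompl := by
    ext s
    constructor
    · rintro ⟨p, hp, rfl⟩; exact hp
    · intro hs
      obtain ⟨p, rfl⟩ := hπ s
      exact ⟨p, hs, rfl⟩
  refine Iff.trans ?_ (flat_localized_iff π _ e _)
  rw [hmap]

variable {A : Type u} [CommRing A]

/-- The system of finitely generated subrings above a given one. -/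
noncomputable def sysSub (D₀ : Subalgebra ℤ A) (hD₀ : D₀.FG) : Sys.{u, u} D₀.val.toRingHom where
  J := {D : Subalgebra ℤ A // D.FG ∧ D₀ ≤ D}
  G D := D.1
  a D := (Subalgebra.inclusion D.2.2).toRingHom
  ψ D := D.1.val.toRingHom
  fac _ := rfl
  nonempty := ⟨⟨D₀, hD₀, le_rfl⟩⟩
  lift j x := ⟨⟨j.1 ⊔ Algebra.adjoin ℤ {x}, j.2.1.sup (Subalgebra.fg_def.mpr ⟨{x}, Set.finite_singleton x, rfl⟩), j.2.2.trans le_sup_left⟩,
    (Subalgebra.inclusion (show j.1 ≤ j.1 ⊔ Algebra.adjoin ℤ {x} from le_sup_left)).toRingHom, rfl, rfl,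
    ⟨x, (show Algebra.adjoin ℤ {x} ≤ j.1 ⊔ Algebra.adjoin ℤ {x} from le_sup_right)
      (Algebra.self_mem_adjoin_singleton ℤ x)⟩, rfl⟩
  eq j _ hy := ⟨j, RingHom.id _, rfl, rfl, Subtype.ext hy⟩

theorem wk_fg {n : ℕ} {R : Type u} [CommRing R] {K : Ideal (MvPolynomial (Fin n) R)} (hK : K.FG) : (Wk K).FG := by
  have : Wk K = Submodule.map (LinearEquiv.funUnique (Fin 1) (MvPolynomial (Fin n) R) (MvPolynomial (Fin n) R)).symm.toLinearMap K :=
    Submodule.comap_equiv_eq_map_symm _ _
  rw [this]
  exact Submodule.FG.map _ hK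

variable {B : Type u} [CommRing B] [Algebra A B]

/-- Flatness at finitely many points descends to a finitely generated subring. -/
theorem exists_stage_fl {n : ℕ} (π : MvPolynomial (Fin n) A →ₐ[A] B) (hπ : Function.Surjective π)
    (D₀ : Subalgebra ℤ A) (hD₀ : D₀.FG) (K₀ : Ideal (MvPolynomial (Fin n) D₀)) (hK₀ : K₀.FG)
    (hmap : K₀.map (MvPolynomial.map D₀.val.toRingHom) = RingHom.ker π.toRingHom)
    (M : Set (PrimeSpectrum B)) (hM : M.Finite) (h : ∀ P ∈ M, Module.Flat A (Localization.AtPrime P.asIdeal)) :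
    ∃ (D : Subalgebra ℤ A) (_ : D.FG) (hle : D₀ ≤ D), ∀ P ∈ M,
      Fl (⊥ : Ideal D) (P.asIdeal.comap (π.toRingHom.comp (MvPolynomial.map D.val.toRingHom))).primeCompl
        (ext (Subalgebra.inclusion hle).toRingHom (Wk K₀)) := by
  induction M, hM using Set.Finite.induction_on with
  | empty => exact ⟨D₀, hD₀, le_rfl, fun P hP => absurd hP (Set.notMem_empty P)⟩
  | @insert P M _ _ ih =>
    obtain ⟨D, hD, hle, hfl⟩ := ih fun Q hQ => h Q (Set.mem_insert_of_mem _ hQ)
    have hA : Fl (⊥ : Ideal A) (P.asIdeal.comap π.toRingHom).primeCompl (ext D₀.val.toRingHom (Wk K₀)) := by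
      rw [Wk, ext_comap_funUnique, hmap]
      exact (flat_atPrime_iff_fl π hπ P.asIdeal).1 (h P (Set.mem_insert _ _))
    obtain ⟨j, g, hg, hgfl⟩ := (sysSub D₀ hD₀).exists_fl (wk_fg hK₀) hA
    refine ⟨j.1 ⊔ D, j.2.1.sup hD, j.2.2.trans le_sup_left, fun Q hQ => ?_⟩
    have key : ∀ (D' : Subalgebra ℤ A) (h₀ : D₀ ≤ D') (h' : D' ≤ j.1 ⊔ D) (G : Submonoid (MvPolynomial (Fin n) D')),
        Fl (⊥ : Ideal D') G (ext (Subalgebra.inclusion h₀).toRingHom (Wk K₀)) →
        (∀ s ∈ G, π (MvPolynomial.map D'.val.toRingHom s) ∉ Q.asIdeal) →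
        Fl (⊥ : Ideal ↥(j.1 ⊔ D)) (Q.asIdeal.comap (π.toRingHom.comp (MvPolynomial.map (j.1 ⊔ D).val.toRingHom))).primeCompl
          (ext (Subalgebra.inclusion (h₀.trans h')).toRingHom (Wk K₀)) := by
      intro D' h₀ h' G hG hGQ
      have := Fl.baseChange (Subalgebra.inclusion h').toRingHom hG
        (G' := (Q.asIdeal.comap (π.toRingHom.comp (MvPolynomial.map (j.1 ⊔ D).val.toRingHom))).primeCompl) (fun s hs => by
          show π (MvPolynomial.map (j.1 ⊔ D).val.toRingHom (MvPolynomial.map _ s)) ∉ Q.asIdeal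
          rw [MvPolynomial.map_map]
          exact hGQ s hs)
      rw [Ideal.map_bot, ext_ext] at this
      exact this
    rcases Set.mem_insert_iff.1 hQ with rfl | hQ
    · refine key j.1 j.2.2 le_sup_left _ hgfl fun s hs => ?_
      obtain ⟨k, rfl⟩ := hs
      show π (MvPolynomial.map _ (g ^ k)) ∉ _
      rw [map_pow, map_pow]
      exact fun hk => hg (Q.2.mem_of_pow_mem k hk)
    · exact key D hle le_sup_right _ (hfl Q hQ) fun s hs => hs

/-- The maximal points of the fibre below a prime are finite in number. -/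
theorem finite_minimal_in_fibre [Algebra.FiniteType A B] (n : Ideal B) (p : Ideal A) [p.IsPrime] :
    {P : PrimeSpectrum B | P.asIdeal ≤ n ∧ P.asIdeal.under A = p ∧
      ∀ Q : Ideal B, Q.IsPrime → Q ≤ P.asIdeal → Q.under A = P.asIdeal.under A → Q = P.asIdeal}.Finite := by
  let iso := PrimeSpectrum.primesOverOrderIsoFiber A B p
  haveI : IsNoetherianRing (p.Fiber B) := Algebra.FiniteType.isNoetherianRing p.ResidueField _
  have hfin : ({q : PrimeSpectrum (p.Fiber B) | q.asIdeal ∈ minimalPrimes (p.Fiber B)}).Finite :=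
    (minimalPrimes.finite_of_isNoetherianRing _).preimage fun _ _ _ _ h => PrimeSpectrum.ext h
  refine (hfin.image fun q => (⟨(iso.symm q).1, (iso.symm q).2.1⟩ : PrimeSpectrum B)).subset ?_
  rintro P ⟨-, hPp, hmin⟩
  let P' : p.primesOver B := ⟨P.asIdeal, P.2, ⟨hPp.symm⟩⟩
  refine ⟨iso P', ⟨⟨(iso P').2, bot_le⟩, fun Q hQ hle => ?_⟩, PrimeSpectrum.ext ?_⟩
  · let q : PrimeSpectrum (p.Fiber B) := ⟨Q, hQ.1⟩
    have hle' : iso.symm q ≤ P' := iso.symm_apply_le.mpr hle
    have h1 : (iso.symm q).1 = P.asIdeal :=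
      hmin _ (iso.symm q).2.1 hle' ((iso.symm q).2.2.over.symm.trans hPp.symm)
    have h2 : iso P' = q := by
      rw [show P' = iso.symm q from Subtype.ext h1.symm, OrderIso.apply_symm_apply]
    rw [h2]
  · show (iso.symm (iso P')).1 = P.asIdeal
    rw [OrderIso.symm_apply_apply]

/-- Flatness at a point of a model from flatness at the images of the maximal points of the fibre. -/
theorem flat_stage {D BD : Type u} [CommRing D] [IsNoetherianRing D] [CommRing BD] [Algebra D BD]
    [Algebra.FiniteType D BD] [Algebra D A] [Algebra D B] [Algebra BD B] [IsScalarTower D A B] [IsScalarTower D BD B]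
    [Algebra.IsPushout D A BD B] (n : Ideal B) [n.IsPrime] (hGR : RingGR A n)
    (H : ∀ (P : PrimeSpectrum B), P.asIdeal ≤ n → P.asIdeal.under A = n.under A →
      (∀ Q : Ideal B, Q.IsPrime → Q ≤ P.asIdeal → Q.under A = P.asIdeal.under A → Q = P.asIdeal) →
      Module.Flat D (Localization.AtPrime (P.asIdeal.comap (algebraMap BD B)))) :
    Module.Flat D (Localization.AtPrime (n.comap (algebraMap BD B))) := by
  have hsq : IsPullback (Spec.map (CommRingCat.ofHom (algebraMap BD B))) (Spec.map (CommRingCat.ofHom (algebraMap A B)))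
      (Spec.map (CommRingCat.ofHom (algebraMap D BD))) (Spec.map (CommRingCat.ofHom (algebraMap D A))) :=
    (isPullback_SpecMap_of_isPushout _ _ _ _ (CommRingCat.isPushout_of_isPushout D A BD B)).flip
  let nD : Ideal BD := n.comap (algebraMap BD B)
  have hgr : RingGR D nD :=
    (gr_spec_iff (⟨nD, inferInstance⟩ : PrimeSpectrum BD)).mp
      ((gr_baseChange_iff hsq (⟨n, inferInstance⟩ : PrimeSpectrum B)).mp
        ((gr_spec_iff (⟨n, inferInstance⟩ : PrimeSpectrum B)).mpr hGR))
  have hflat : ∀ (Q : Ideal BD) [Q.IsPrime], Q ≤ nD → Q.under D = nD.under D →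
      (∀ Q' : Ideal BD, Q'.IsPrime → Q' ≤ Q → Q'.under D = Q.under D → Q' = Q) →
      Module.Flat D (Localization.AtPrime Q) := by
    intro Q _ hQn hQp hQmin
    obtain ⟨z, hz, hzp, hzq⟩ := exists_lift_fibre hsq (⟨n, inferInstance⟩ : PrimeSpectrum B)
      (q := (⟨Q, inferInstance⟩ : PrimeSpectrum BD))
      ((PrimeSpectrum.le_iff_specializes (⟨Q, inferInstance⟩ : PrimeSpectrum BD) ⟨nD, inferInstance⟩).mp hQn)
      (PrimeSpectrum.ext hQp)
    let z' : PrimeSpectrum B := z
    have hzle : z'.asIdeal ≤ n := (PrimeSpectrum.le_iff_specializes z' ⟨n, inferInstance⟩).mpr hz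
    have hzQ : z'.asIdeal.comap (algebraMap BD B) = Q := congrArg PrimeSpectrum.asIdeal hzq
    obtain ⟨P, hP, hPz⟩ := Ideal.exists_minimalPrimes_le
      (show (n.under A).map (algebraMap A B) ≤ z'.asIdeal from
        Ideal.map_le_iff_le_comap.mpr (congrArg PrimeSpectrum.asIdeal hzp).ge)
    haveI : P.IsPrime := hP.1.1
    have hPp : P.under A = n.under A :=
      le_antisymm (Ideal.comap_mono (hPz.trans hzle)) (Ideal.map_le_iff_le_comap.mp hP.1.2)
    have hflatP := H ⟨P, inferInstance⟩ (hPz.trans hzle) hPp fun Q' hQ' hle' hQ'p =>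
      le_antisymm hle' (hP.2 ⟨hQ', Ideal.map_le_iff_le_comap.mpr (hPp ▸ hQ'p ▸ le_rfl)⟩ hle')
    have hPQ : P.comap (algebraMap BD B) = Q := by
      refine hQmin _ inferInstance ((Ideal.comap_mono hPz).trans hzQ.le) ?_
      have e : ∀ J : Ideal B, (J.comap (algebraMap BD B)).under D = (J.under A).comap (algebraMap D A) := fun J => by
        rw [Ideal.under, Ideal.comap_comap, Ideal.under, Ideal.comap_comap, ← IsScalarTower.algebraMap_eq,
          ← IsScalarTower.algebraMap_eq]
      rw [hQp, e, hPp, ← e]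
    subst hPQ
    exact hflatP
  have hloc := flat_localRingHom_of_minimal nD (nD.under D) rfl hgr fun Q _ h1 h2 h3 => hflat Q h1 h2 h3
  letI := (Localization.localRingHom (nD.under D) nD (algebraMap D BD) rfl).toAlgebra
  haveI : IsScalarTower D (Localization.AtPrime (nD.under D)) (Localization.AtPrime nD) :=
    IsScalarTower.of_algebraMap_eq fun x => by
      rw [RingHom.algebraMap_toAlgebra, Localization.localRingHom_to_map, ← IsScalarTower.algebraMap_apply]
  exact (Module.flat_iff_of_isLocalization (Localization.AtPrime (nD.under D)) (nD.under D).primeCompl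
    (Localization.AtPrime nD)).mp hloc

/-- Flatness at a point from a model over a Noetherian ring in which the maximal points of the fibre become flat. -/
theorem flat_of_model {D BD : Type u} [CommRing D] [IsNoetherianRing D] [CommRing BD] [Algebra D BD]
    [Algebra.FiniteType D BD] [Algebra D A] [Algebra D B] [Algebra BD B] [IsScalarTower D A B] [IsScalarTower D BD B]
    [Algebra.IsPushout D A BD B] {m : ℕ} (π : MvPolynomial (Fin m) A →ₐ[A] B) (hπ : Function.Surjective π)
    (πD : MvPolynomial (Fin m) D →ₐ[D] BD) (hπD : Function.Surjective πD)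
    (hcomp : π.toRingHom.comp (MvPolynomial.map (algebraMap D A)) = (algebraMap BD B).comp πD.toRingHom)
    (hker : (RingHom.ker πD.toRingHom).map (MvPolynomial.map (algebraMap D A)) = RingHom.ker π.toRingHom)
    (n : Ideal B) [n.IsPrime] (hGR : RingGR A n)
    (H : ∀ (P : PrimeSpectrum B), P.asIdeal ≤ n → P.asIdeal.under A = n.under A →
      (∀ Q : Ideal B, Q.IsPrime → Q ≤ P.asIdeal → Q.under A = P.asIdeal.under A → Q = P.asIdeal) →
      Fl (⊥ : Ideal D) (P.asIdeal.comap (π.toRingHom.comp (MvPolynomial.map (algebraMap D A)))).primeCompl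
        (Wk (RingHom.ker πD.toRingHom))) :
    Module.Flat A (Localization.AtPrime n) := by
  have hnD : Module.Flat D (Localization.AtPrime (n.comap (algebraMap BD B))) :=
    flat_stage n hGR fun P h1 h2 h3 => (flat_atPrime_iff_fl πD hπD _).2 (by
      have := H P h1 h2 h3
      simp only [hcomp] at this
      exact this)
  refine (flat_atPrime_iff_fl π hπ n).2 ?_
  have := Fl.baseChange (algebraMap D A) ((flat_atPrime_iff_fl πD hπD _).1 hnD)
    (G' := (n.comap π.toRingHom).primeCompl) fun s hs => by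
      show π.toRingHom (MvPolynomial.map (algebraMap D A) s) ∉ n
      rw [← RingHom.comp_apply, hcomp]
      exact hs
  rw [Ideal.map_bot, Wk, ext_comap_funUnique, hker] at this
  exact this

/-- A model over the subring generated by the coefficients. -/
theorem exists_model_quotient {D : Type u} [CommRing D] [Algebra D A] [Algebra D B] [IsScalarTower D A B] {m : ℕ}
    (π : MvPolynomial (Fin m) A →ₐ[A] B) (hπ : Function.Surjective π) (K : Ideal (MvPolynomial (Fin m) D))
    (hK : K.map (MvPolynomial.map (algebraMap D A)) = RingHom.ker π.toRingHom) :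
    ∃ (BD : Type u) (_ : CommRing BD) (_ : Algebra D BD) (_ : Algebra BD B) (_ : IsScalarTower D BD B)
      (_ : Algebra.FiniteType D BD) (_ : Algebra.IsPushout D A BD B) (πD : MvPolynomial (Fin m) D →ₐ[D] BD),
      Function.Surjective πD ∧ RingHom.ker πD.toRingHom = K ∧
      π.toRingHom.comp (MvPolynomial.map (algebraMap D A)) = (algebraMap BD B).comp πD.toRingHom := by
  let χ : MvPolynomial (Fin m) D ⧸ K →+* B :=
    Ideal.Quotient.lift K (π.toRingHom.comp (MvPolynomial.map (algebraMap D A))) fun x hx =>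
      hK.le (Ideal.mem_map_of_mem _ hx)
  letI : Algebra (MvPolynomial (Fin m) D ⧸ K) B := χ.toAlgebra
  have hχ : ∀ x, algebraMap (MvPolynomial (Fin m) D ⧸ K) B (Ideal.Quotient.mk K x) =
      π (MvPolynomial.map (algebraMap D A) x) := fun x => Ideal.Quotient.lift_mk _ _ _
  haveI : IsScalarTower D (MvPolynomial (Fin m) D ⧸ K) B :=
    IsScalarTower.of_algebraMap_eq (R := D) (S := MvPolynomial (Fin m) D ⧸ K) (A := B) fun d => by
      show _ = algebraMap (MvPolynomial (Fin m) D ⧸ K) B (Ideal.Quotient.mk K (MvPolynomial.C d))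
      rw [hχ, MvPolynomial.map_C, IsScalarTower.algebraMap_apply D A B]
      exact (π.commutes _).symm
  exact ⟨_, inferInstance, inferInstance, inferInstance, inferInstance, inferInstance,
    isPushout_model π hπ K hK hχ, Ideal.Quotient.mkₐ D K, Ideal.Quotient.mk_surjective, Ideal.mk_ker,
    RingHom.ext fun x => (hχ x).symm⟩

set_option maxHeartbeats 1600000 in
/-- **Flatness from the maximal points of a geometrically reduced fibre, finitely presented case.** -/
theorem flat_atPrime_of_minimal [Algebra.FinitePresentation A B] (n : Ideal B) [n.IsPrime] (hGR : RingGR A n)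
    (H : ∀ (P : Ideal B) [P.IsPrime], P ≤ n → P.under A = n.under A →
      (∀ Q : Ideal B, Q.IsPrime → Q ≤ P → Q.under A = P.under A → Q = P) →
      Module.Flat A (Localization.AtPrime P)) :
    Module.Flat A (Localization.AtPrime n) := by
  classical
  obtain ⟨m, π, hπ, ⟨F, hF⟩⟩ := Algebra.FinitePresentation.out (R := A) (A := B)
  let D₀ : Subalgebra ℤ A := Algebra.adjoin ℤ ((F.biUnion fun q => q.coeffs : Finset A) : Set A)
  have hl : ∀ q ∈ F, ∃ q₀, MvPolynomial.map D₀.val.toRingHom q₀ = q := fun q hq =>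
    MvPolynomial.mem_range_map_iff_coeffs_subset.mpr fun c hc =>
      ⟨⟨c, Algebra.subset_adjoin (Finset.mem_coe.2 (Finset.mem_biUnion.2 ⟨q, hq, hc⟩))⟩, rfl⟩
  choose lf hlf using hl
  let K₀ : Ideal (MvPolynomial (Fin m) D₀) :=
    Ideal.span ((F.attach.image fun q => lf q.1 q.2 : Finset (MvPolynomial (Fin m) D₀)) : Set (MvPolynomial (Fin m) D₀))
  have hmap : K₀.map (MvPolynomial.map D₀.val.toRingHom) = RingHom.ker π.toRingHom := by
    rw [Ideal.map_span, ← hF, ← Finset.coe_image, Finset.image_image]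
    congr 2
    exact (Finset.image_congr (fun q _ => hlf q.1 q.2)).trans F.attach_image_val
  let M := {P : PrimeSpectrum B | P.asIdeal ≤ n ∧ P.asIdeal.under A = n.under A ∧
      ∀ Q : Ideal B, Q.IsPrime → Q ≤ P.asIdeal → Q.under A = P.asIdeal.under A → Q = P.asIdeal}
  obtain ⟨D, hD, hle, hfl⟩ := exists_stage_fl π hπ D₀ ⟨_, rfl⟩ K₀ ⟨_, rfl⟩ hmap M
    (finite_minimal_in_fibre n (n.under A)) fun P hP => H P.asIdeal hP.1 hP.2.1 hP.2.2
  -- the model over `D`
  let KD : Ideal (MvPolynomial (Fin m) D) := K₀.map (MvPolynomial.map (Subalgebra.inclusion hle).toRingHom)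
  have hKD : KD.map (MvPolynomial.map D.val.toRingHom) = RingHom.ker π.toRingHom := by
    rw [Ideal.map_map, ← hmap]
    exact congrArg (fun φ => K₀.map φ) (MvPolynomial.ringHom_ext (fun r => by simp) (fun i => by simp))
  haveI : IsNoetherianRing D := by
    haveI : Algebra.FiniteType ℤ D := (Subalgebra.fg_iff_finiteType _).mp hD
    exact Algebra.FiniteType.isNoetherianRing ℤ D
  obtain ⟨BD, _, _, _, _, _, _, πD, hπD, hk, hcomp⟩ := exists_model_quotient (D := D) π hπ KD hKD
  refine flat_of_model π hπ πD hπD hcomp (by rw [hk]; exact hKD) n hGR fun P h1 h2 h3 => ?_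
  have h := hfl P ⟨h1, h2, h3⟩
  have hW : ext (Subalgebra.inclusion hle).toRingHom (Wk K₀) = Wk KD := ext_comap_funUnique _ _
  rw [hW] at h
  rw [hk]
  exact h

end Groth.Agent.UOFlat
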