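import Groth.Agent.UOFlat.AtMax
import Groth.Agent.GeomRedAt.Scheme
import Groth.Agent.S2451

/-!
# Local rings of geometrically reduced fibres at their maximal points
-/

set_option autoImplicit false
set_option linter.style.haveILetI false
universe u
open TensorProduct

namespace Groth.Agent.UOFlat
open GeomRedAt (RingGR)

variable {A B : Type u} [CommRing A] [CommRing B] [Algebra A B]

theorem ringHom_ext_residueField' {R : Type u} [CommRing R] (p : Ideal A) [p.IsPrime]
    {f g : p.ResidueField →+* R}
    (h : ∀ a, f (algebraMap A p.ResidueField a) = g (algebraMap A p.ResidueField a)) : f = g := by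
  refine IsLocalization.ringHom_ext (nonZeroDivisors (A ⧸ p)) (RingHom.ext fun x => ?_)
  obtain ⟨a, rfl⟩ := Ideal.Quotient.mk_surjective x
  exact h a

theorem exists_tmul_one_eq (p : Ideal A) [p.IsPrime] (u : B ⊗[A] p.ResidueField) :
    ∃ d w, d ∉ p ∧ u * ((1 : B) ⊗ₜ[A] algebraMap A p.ResidueField d) = w ⊗ₜ[A] 1 := by
  induction u using TensorProduct.induction_on with
  | zero => exact ⟨1, 0, (Ideal.ne_top_iff_one p).mp ‹p.IsPrime›.ne_top, by simp⟩
  | tmul b c =>
    obtain ⟨a, d, rfl⟩ := exists_div p c
    by_cases hd : d ∈ p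
    · refine ⟨1, 0, (Ideal.ne_top_iff_one p).mp ‹p.IsPrime›.ne_top, ?_⟩
      simp [Ideal.algebraMap_residueField_eq_zero.mpr hd]
    refine ⟨d, a • b, hd, ?_⟩
    rw [Algebra.TensorProduct.tmul_mul_tmul, mul_one,
      div_mul_cancel₀ _ (fun h => hd (Ideal.algebraMap_residueField_eq_zero.mp h)),
      Algebra.algebraMap_eq_smul_one, TensorProduct.smul_tmul]
  | add x y hx hy =>
    obtain ⟨d, w, hd, hx⟩ := hx
    obtain ⟨e, v, he, hy⟩ := hy
    refine ⟨d * e, e • w + d • v, fun h => (‹p.IsPrime›.mem_or_mem h).elim hd he, ?_⟩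
    have key : ∀ (r : A) (z : B), (r • z) ⊗ₜ[A] (1 : p.ResidueField) =
        z ⊗ₜ[A] (1 : p.ResidueField) * ((1 : B) ⊗ₜ[A] algebraMap A p.ResidueField r) := fun r z => by
      rw [Algebra.TensorProduct.tmul_mul_tmul, mul_one, one_mul, Algebra.algebraMap_eq_smul_one,
        TensorProduct.smul_tmul]
    rw [TensorProduct.add_tmul, key, key, ← hx, ← hy, map_mul,
      show (1 : B) ⊗ₜ[A] (algebraMap A p.ResidueField d * algebraMap A p.ResidueField e) =
        ((1 : B) ⊗ₜ[A] algebraMap A p.ResidueField d) * ((1 : B) ⊗ₜ[A] algebraMap A p.ResidueField e) by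
          rw [Algebra.TensorProduct.tmul_mul_tmul, one_mul]]
    ring

/-- At a point of a geometrically reduced fibre the ideal of the fibre is radical. -/
theorem map_isRadical_of_ringGR (P : Ideal B) [P.IsPrime] (h : RingGR A P) :
    ((P.under A).map (algebraMap A (Localization.AtPrime P))).IsRadical := by
  let S := Localization.AtPrime P
  have hle : (P.under A).map (algebraMap A S) ≤ IsLocalRing.maximalIdeal S := by
    rw [Ideal.map_le_iff_le_comap]
    intro a ha
    rw [Ideal.mem_comap, IsScalarTower.algebraMap_apply A B S, IsLocalization.AtPrime.to_map_mem_maximal_iff S P]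
    exact ha
  let I := (P.under A).map (algebraMap A S)
  haveI : Nontrivial (S ⧸ I) :=
    Ideal.Quotient.nontrivial_iff.mpr fun hI => (IsLocalRing.maximalIdeal.isMaximal S).ne_top (top_le_iff.mp (hI ▸ hle))
  haveI : IsLocalRing (S ⧸ I) := IsLocalRing.of_surjective' (Ideal.Quotient.mk I) Ideal.Quotient.mk_surjective
  haveI : IsLocalHom (Ideal.Quotient.mk I) := IsLocalHom.of_surjective _ Ideal.Quotient.mk_surjective
  let gA : A →ₐ[A] S ⧸ I := Algebra.ofId A _
  let g : (P.under A).ResidueField →ₐ[A] S ⧸ I := Ideal.ResidueField.liftₐ (P.under A) gA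
    (fun a ha => by
      show Ideal.Quotient.mk I (algebraMap A S a) = 0
      exact Ideal.Quotient.eq_zero_iff_mem.mpr (Ideal.mem_map_of_mem _ ha))
    (fun a ha => by
      show IsUnit (Ideal.Quotient.mk I (algebraMap A S a))
      refine IsUnit.map _ ?_
      rw [IsScalarTower.algebraMap_apply A B S]
      exact IsLocalization.map_units S (⟨_, ha⟩ : P.primeCompl))
  let θ : B ⊗[A] (P.under A).ResidueField →ₐ[A] S ⧸ I :=
    Algebra.TensorProduct.lift ((Ideal.Quotient.mkₐ A I).comp (IsScalarTower.toAlgHom A B S)) g fun _ _ => Commute.all _ _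
  have hθB : ∀ b : B, θ (b ⊗ₜ[A] (1 : (P.under A).ResidueField)) = Ideal.Quotient.mk I (algebraMap B S b) := fun b => by
    simp [θ]
  let P' := (IsLocalRing.maximalIdeal (S ⧸ I)).comap θ.toRingHom
  haveI : P'.IsPrime := Ideal.IsPrime.comap _
  have hP' : P'.comap (algebraMap B (B ⊗[A] (P.under A).ResidueField)) = P := by
    ext b
    show θ (b ⊗ₜ[A] 1) ∈ IsLocalRing.maximalIdeal (S ⧸ I) ↔ b ∈ P
    rw [hθB, ← IsLocalization.AtPrime.to_map_mem_maximal_iff S P b, IsLocalRing.mem_maximalIdeal,
      IsLocalRing.mem_maximalIdeal, mem_nonunits_iff, mem_nonunits_iff]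
    exact not_congr ⟨fun hu => (isUnit_map_iff (Ideal.Quotient.mk I) _).mp hu, fun hu => hu.map _⟩
  let T := Localization.AtPrime P'
  haveI : _root_.IsReduced T := h _ P' hP'
  intro x hx
  obtain ⟨m, hm⟩ := hx
  obtain ⟨b, s, rfl⟩ := IsLocalization.exists_mk'_eq P.primeCompl x
  let ψ : S →+* T := IsLocalization.lift (M := P.primeCompl)
    (g := (algebraMap (B ⊗[A] (P.under A).ResidueField) T).comp (algebraMap B (B ⊗[A] (P.under A).ResidueField)))
    fun s => IsLocalization.map_units T (⟨_, fun hs => s.2 (hP'.le hs)⟩ : P'.primeCompl)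
  have hψ : ∀ b, ψ (algebraMap B S b) = algebraMap _ T (b ⊗ₜ[A] (1 : (P.under A).ResidueField)) :=
    IsLocalization.lift_eq _
  have hψI : I ≤ RingHom.ker ψ := Ideal.map_le_iff_le_comap.mpr fun a ha => by
    show ψ (algebraMap A S a) = 0
    rw [IsScalarTower.algebraMap_apply A B S, hψ, Algebra.algebraMap_eq_smul_one (A := B) a, TensorProduct.smul_tmul,
      ← Algebra.algebraMap_eq_smul_one, Ideal.algebraMap_residueField_eq_zero.mpr ha, TensorProduct.tmul_zero, map_zero]
  have hb0 : ψ (algebraMap B S b) = 0 := by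
    refine IsReduced.eq_zero _ ⟨m, ?_⟩
    rw [← IsLocalization.mk'_spec S b s, map_mul, mul_pow, ← map_pow,
      show ψ ((IsLocalization.mk' S b s) ^ m) = 0 from hψI hm, zero_mul]
  rw [hψ] at hb0
  obtain ⟨⟨v, hv⟩, hvb⟩ := (IsLocalization.map_eq_zero_iff P'.primeCompl T _).mp hb0
  have hθv : IsUnit (θ v) := of_not_not fun hnu => hv ((IsLocalRing.mem_maximalIdeal _).mpr hnu)
  have h1 : Ideal.Quotient.mk I (algebraMap B S b) = 0 := by
    rw [← hθB, ← hθv.mul_right_eq_zero, ← map_mul, hvb, map_zero]
  rw [IsLocalization.mk'_eq_mul_mk'_one]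
  exact I.mul_mem_right _ (Ideal.Quotient.eq_zero_iff_mem.mp h1)

/-- At a maximal point of a geometrically reduced fibre the local ring of the fibre is a field. -/
theorem map_eq_maximalIdeal_of_ringGR (P : Ideal B) [P.IsPrime] (h : RingGR A P)
    (hmin : ∀ Q : Ideal B, Q.IsPrime → Q ≤ P → Q.under A = P.under A → Q = P) :
    (P.under A).map (algebraMap A (Localization.AtPrime P)) = IsLocalRing.maximalIdeal (Localization.AtPrime P) := by
  rw [← (map_isRadical_of_ringGR P h).radical, Ideal.radical_eq_sInf]
  refine le_antisymm (sInf_le ⟨Ideal.map_le_iff_le_comap.mpr fun a ha => ?_, inferInstance⟩) (le_sInf ?_)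
  · rw [Ideal.mem_comap, IsScalarTower.algebraMap_apply A B (Localization.AtPrime P),
      IsLocalization.AtPrime.to_map_mem_maximal_iff _ P]
    exact ha
  rintro J ⟨hIJ, hJ⟩
  have hle : J.comap (algebraMap B (Localization.AtPrime P)) ≤ P :=
    (Ideal.comap_mono (IsLocalRing.le_maximalIdeal hJ.ne_top)).trans
      (IsLocalization.AtPrime.comap_maximalIdeal (Localization.AtPrime P) P).le
  have heq := hmin (J.comap (algebraMap B (Localization.AtPrime P))) inferInstance hle
    (le_antisymm (Ideal.comap_mono hle) fun a ha => by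
      show algebraMap B (Localization.AtPrime P) (algebraMap A B a) ∈ J
      rw [← IsScalarTower.algebraMap_apply]
      exact hIJ (Ideal.mem_map_of_mem _ ha))
  rw [← IsLocalization.map_comap P.primeCompl (Localization.AtPrime P) J,
    show J.under B = P from heq, IsLocalization.AtPrime.map_eq_maximalIdeal P (Localization.AtPrime P)]

set_option maxHeartbeats 1600000 in
/-- At a maximal point of a geometrically reduced fibre the residue field is separable over that of the image. -/
theorem formallySmooth_residueField_of_ringGR (P : Ideal B) [P.IsPrime]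
    [Algebra (P.under A).ResidueField P.ResidueField] [IsScalarTower A (P.under A).ResidueField P.ResidueField]
    (h : RingGR A P)
    (hfib : (P.under A).map (algebraMap A (Localization.AtPrime P)) = IsLocalRing.maximalIdeal (Localization.AtPrime P)) :
    Algebra.FormallySmooth (P.under A).ResidueField P.ResidueField := by
  rw [Groth.Agent.S2451.result, Algebra.isGeometricallyReduced_field_iff]
  let k := (P.under A).ResidueField
  let L := AlgebraicClosure k
  let M : Submonoid (B ⊗[A] L) := Submonoid.map (algebraMap B (B ⊗[A] L)) P.primeCompl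
  let W := Localization M
  let j : B →+* W := (algebraMap (B ⊗[A] L) W).comp (algebraMap B (B ⊗[A] L))
  let iL : L →+* W := (algebraMap (B ⊗[A] L) W).comp
    (Algebra.TensorProduct.includeRight (R := A) (A := B) (B := L)).toRingHom
  have hAB : ∀ a : A, j (algebraMap A B a) = iL (algebraMap A L a) := fun a => by
    show algebraMap _ W (algebraMap A B a ⊗ₜ[A] (1 : L)) = algebraMap _ W ((1 : B) ⊗ₜ[A] algebraMap A L a)
    rw [Algebra.algebraMap_eq_smul_one (A := B) a, Algebra.algebraMap_eq_smul_one (A := L) a, TensorProduct.smul_tmul]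
  have hunit : ∀ s ∈ P.primeCompl, IsUnit (j s) := fun s hs =>
    IsLocalization.map_units W (⟨_, Submonoid.mem_map_of_mem _ hs⟩ : M)
  let jS : Localization.AtPrime P →+* W := IsLocalization.lift (M := P.primeCompl) (g := j) fun s => hunit s.1 s.2
  have hjS : ∀ b, jS (algebraMap B _ b) = j b := IsLocalization.lift_eq _
  have hkill : ∀ b ∈ P, j b = 0 := by
    intro b hb
    have : algebraMap B (Localization.AtPrime P) b ∈ RingHom.ker jS := by
      refine Ideal.map_le_iff_le_comap.mpr ?_ (hfib.ge
        ((IsLocalization.AtPrime.to_map_mem_maximal_iff (Localization.AtPrime P) P b).mpr hb))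
      intro a ha
      show jS (algebraMap A _ a) = 0
      rw [IsScalarTower.algebraMap_apply A B (Localization.AtPrime P), hjS, hAB,
        IsScalarTower.algebraMap_apply A k L, Ideal.algebraMap_residueField_eq_zero.mpr ha, map_zero, map_zero]
    rw [← hjS]; exact this
  haveI : _root_.IsReduced W := by
    refine isReduced_ofLocalizationMaximal W fun m hm => ?_
    have hPm : (m.comap (algebraMap (B ⊗[A] L) W)).comap (algebraMap B (B ⊗[A] L)) = P := by
      refine le_antisymm (fun b hb => ?_) fun b hb => ?_
      · by_contra hbP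
        exact hm.ne_top (Ideal.eq_top_of_isUnit_mem _ hb (hunit b hbP))
      · show j b ∈ m
        rw [hkill b hb]; exact m.zero_mem
    have := h L (m.comap (algebraMap (B ⊗[A] L) W)) hPm
    let e := IsLocalization.localizationLocalizationAtPrimeIsoLocalization M m
    exact isReduced_of_injective e.symm.toRingHom e.symm.injective
  letI : Algebra k W := (iL.comp (algebraMap k L)).toAlgebra
  let κ : P.ResidueField →+* W := Ideal.ResidueField.lift P j hkill hunit
  have hκ : ∀ b, κ (algebraMap B P.ResidueField b) = j b := fun b => Ideal.ResidueField.lift_algebraMap _ _ _ _ b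
  have hκk : κ.comp (algebraMap k P.ResidueField) = algebraMap k W := ringHom_ext_residueField' (P.under A) fun a => by
    show κ (algebraMap k P.ResidueField (algebraMap A k a)) = iL (algebraMap k L (algebraMap A k a))
    rw [← IsScalarTower.algebraMap_apply A k P.ResidueField, ← IsScalarTower.algebraMap_apply A k L,
      IsScalarTower.algebraMap_apply A B P.ResidueField, hκ, hAB]
  let fL : L →ₐ[k] W := { iL with commutes' := fun _ => rfl }
  let fP : P.ResidueField →ₐ[k] W := { κ with commutes' := fun r => RingHom.congr_fun hκk r }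
  let g : L ⊗[k] P.ResidueField →ₐ[k] W := Algebra.TensorProduct.lift fL fP fun _ _ => Commute.all _ _
  let ν : B ⊗[A] L →ₐ[A] L ⊗[k] P.ResidueField :=
    Algebra.TensorProduct.lift
      (((Algebra.TensorProduct.includeRight (R := k) (A := L) (B := P.ResidueField)).restrictScalars A).comp
        (IsScalarTower.toAlgHom A B P.ResidueField))
      ((Algebra.TensorProduct.includeLeft (R := k) (S := k) (A := L) (B := P.ResidueField)).restrictScalars A)
      fun _ _ => Commute.all _ _
  have hνB : ∀ b : B, ν (b ⊗ₜ[A] (1 : L)) = (1 : L) ⊗ₜ[k] algebraMap B P.ResidueField b := fun b => by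
    simp [ν]
  have hνL : ∀ l : L, ν ((1 : B) ⊗ₜ[A] l) = l ⊗ₜ[k] (1 : P.ResidueField) := fun l => by
    simp [ν]
  let w : W →+* L ⊗[k] P.ResidueField := IsLocalization.lift (M := M) (g := ν.toRingHom) fun s => by
    obtain ⟨b, hb, hbs⟩ := s.2
    rw [← hbs]
    show IsUnit (ν (b ⊗ₜ[A] (1 : L)))
    rw [hνB]
    exact (isUnit_iff_ne_zero.mpr fun h0 => hb (Ideal.algebraMap_residueField_eq_zero.mp h0)).map
      (Algebra.TensorProduct.includeRight (R := k) (A := L) (B := P.ResidueField))
  have hw : ∀ x, w (algebraMap _ W x) = ν x := IsLocalization.lift_eq _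
  have hwg : ∀ x, w (g x) = x := by
    intro x
    induction x using TensorProduct.induction_on with
    | zero => rw [map_zero, map_zero]
    | add x y hx hy => rw [map_add, map_add, hx, hy]
    | tmul l q =>
      obtain ⟨b, s, rfl⟩ := exists_div P q
      have hg : g (l ⊗ₜ[k] (algebraMap B P.ResidueField b / algebraMap B P.ResidueField s)) = iL l * κ (_ / _) :=
        Algebra.TensorProduct.lift_tmul _ _ _ _ _
      rw [hg, map_mul]
      have h1 : ∀ q, w (κ q) = (1 : L) ⊗ₜ[k] q := fun q => by
        refine RingHom.congr_fun (ringHom_ext_residueField' P (f := w.comp κ)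
          (g := (Algebra.TensorProduct.includeRight (R := k) (A := L) (B := P.ResidueField)).toRingHom) fun b => ?_) q
        show w (κ (algebraMap B P.ResidueField b)) = (1 : L) ⊗ₜ[k] algebraMap B P.ResidueField b
        rw [hκ, ← hνB]
        exact hw _
      rw [h1, show w (iL l) = l ⊗ₜ[k] (1 : P.ResidueField) from (hw _).trans (hνL l),
        Algebra.TensorProduct.tmul_mul_tmul, mul_one, one_mul]
  exact isReduced_of_injective g.toRingHom (Function.LeftInverse.injective hwg)

end Groth.Agent.UOFlat
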