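import Groth.Agent.LocalCrit.Criterion
import Mathlib

/-!
# Flatness from flatness at the maximal points of a reduced closed fibre
-/

set_option autoImplicit false
set_option linter.style.haveILetI false
universe u
open TensorProduct IsLocalRing

namespace Groth.Agent.UOFlat

open Groth.Agent.LocalCrit

variable {A B : Type u} [CommRing A] [CommRing B] [IsLocalRing A] [Algebra A B]

local notation "𝔪" => maximalIdeal A

/-- A family which is independent modulo `𝔪 * I` generates `I`. -/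
theorem exists_minimal_generators {I : Ideal A} (hI : I.FG) :
    ∃ (r : ℕ) (a : Fin r → A), Ideal.span (Set.range a) = I ∧
      ∀ c : Fin r → A, ∑ i, c i * a i ∈ 𝔪 * I → ∀ i, c i ∈ 𝔪 := by
  classical
  have hex : ∃ r, ∃ a : Fin r → A, Ideal.span (Set.range a) = I :=
    Submodule.fg_iff_exists_fin_generating_family.1 hI
  obtain ⟨a, ha⟩ := Nat.find_spec hex
  refine ⟨Nat.find hex, a, ha, fun c hc i => ?_⟩
  by_contra hi
  have hpos : 0 < Nat.find hex := i.pos
  obtain ⟨n, hn⟩ : ∃ n, Nat.find hex = n + 1 := ⟨_, (Nat.succ_pred_eq_of_pos hpos).symm⟩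
  let e : Fin (n + 1) ≃ Fin (Nat.find hex) := finCongr hn.symm
  let a' : Fin n → A := fun j => a (e ((e.symm i).succAbove j))
  refine Nat.find_min hex (show n < Nat.find hex by omega) ⟨a', le_antisymm ?_ ?_⟩
  · rw [← ha, Ideal.span_le]
    rintro _ ⟨j, rfl⟩
    exact Ideal.subset_span ⟨_, rfl⟩
  · refine Submodule.le_of_le_smul_of_le_jacobson_bot (I := 𝔪) hI (IsLocalRing.maximalIdeal_le_jacobson ⊥) ?_
    refine ha.symm.trans_le (Ideal.span_le.2 ?_)
    rintro _ ⟨j, rfl⟩
    show a j ∈ Ideal.span (Set.range a') ⊔ 𝔪 * I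
    by_cases hj : j = i
    · subst hj
      obtain ⟨u, hu⟩ : IsUnit (c j) := not_not.1 fun h => hi ((IsLocalRing.mem_maximalIdeal _).2 h)
      have hsum : c j * a j = ∑ k, c k * a k - ∑ k ∈ Finset.univ.erase j, c k * a k := by
        rw [← Finset.sum_erase_add _ _ (Finset.mem_univ j)]; ring
      have : c j * a j ∈ Ideal.span (Set.range a') ⊔ 𝔪 * I := by
        rw [hsum]
        refine sub_mem (Submodule.mem_sup_right hc) (Submodule.mem_sup_left (sum_mem fun k hk => ?_))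
        refine Ideal.mul_mem_left _ _ (Ideal.subset_span ?_)
        obtain ⟨l, hl⟩ := Fin.exists_succAbove_eq (x := e.symm k) (y := e.symm j)
          (fun h => Finset.ne_of_mem_erase hk (e.symm.injective h))
        exact ⟨l, by show a (e _) = _; rw [hl, e.apply_symm_apply]⟩
      rw [← hu] at this
      simpa using (Ideal.span (Set.range a') ⊔ 𝔪 * I).mul_mem_left (↑u⁻¹ : A) this
    · obtain ⟨l, hl⟩ := Fin.exists_succAbove_eq (x := e.symm j) (y := e.symm i) (fun h => hj (e.symm.injective h))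
      exact Submodule.mem_sup_left (Ideal.subset_span ⟨l, by show a (e _) = _; rw [hl, e.apply_symm_apply]⟩)

set_option maxHeartbeats 1600000 in
/-- Coefficients of a linear form in independent elements lying in `𝔪I B` vanish at every prime of the
closed fibre at which `B` is flat over `A`. -/
theorem mem_of_flat_at {r : ℕ} (a : Fin r → A) {J : Ideal A} (hJ : J.FG)
    (hind : ∀ c : Fin r → A, ∑ i, c i * a i ∈ J → ∀ i, c i ∈ 𝔪) (b : Fin r → B)
    (hb : ∑ i, a i • b i ∈ J.map (algebraMap A B)) (P : Ideal B) [P.IsPrime]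
    (hP : (𝔪).map (algebraMap A B) ≤ P) (S : Type u) [CommRing S] [Algebra B S] [Algebra A S]
    [IsScalarTower A B S] [IsLocalization.AtPrime S P] [IsLocalRing S] [Module.Flat A S] (i : Fin r) :
    b i ∈ P := by
  classical
  obtain ⟨s, g, hg⟩ := Submodule.fg_iff_exists_fin_generating_family.1 hJ
  rw [← hg, Ideal.submodule_span_eq, Ideal.map_span, ← Set.range_comp, Ideal.mem_span_range_iff_exists_fun] at hb
  obtain ⟨d, hd⟩ := hb
  let f : Fin r ⊕ Fin s → A := Sum.elim a fun j => - g j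
  let x : Fin r ⊕ Fin s → S := Sum.elim (fun i => algebraMap B S (b i)) fun j => algebraMap B S (d j)
  have hrel : ∑ k, f k • x k = 0 := by
    rw [Fintype.sum_sum_type]
    simp only [Algebra.smul_def] at hd
    simp only [f, x, Sum.elim_inl, Sum.elim_inr, Algebra.smul_def, IsScalarTower.algebraMap_apply A B S,
      map_neg, ← map_mul, ← map_sum]
    rw [← hd, map_sum, ← Finset.sum_add_distrib]
    exact Finset.sum_eq_zero fun j _ => by rw [Function.comp_apply, map_mul]; ring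
  obtain ⟨k, m, y, hxy, hm⟩ := Module.Flat.isTrivialRelation_of_sum_smul_eq_zero (R := A) (M := S) (f := f) (x := x) hrel
  have hmem : ∀ l, m (Sum.inl i) l ∈ 𝔪 := fun l => by
    refine hind (fun i => m (Sum.inl i) l) ?_ i
    have := hm l
    rw [Fintype.sum_sum_type] at this
    simp only [f, Sum.elim_inl, Sum.elim_inr, neg_mul, Finset.sum_neg_distrib, add_neg_eq_zero] at this
    simp_rw [mul_comm (m _ _), this]
    exact sum_mem fun j _ => J.mul_mem_right _ (hg ▸ Submodule.subset_span ⟨j, rfl⟩)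
  have h1 : algebraMap B S (b i) ∈ P.map (algebraMap B S) := by
    rw [show algebraMap B S (b i) = x (Sum.inl i) from rfl, hxy]
    refine sum_mem fun l _ => ?_
    rw [Algebra.smul_def, IsScalarTower.algebraMap_apply A B S]
    exact Ideal.mul_mem_right _ _ (Ideal.mem_map_of_mem _ (hP (Ideal.mem_map_of_mem _ (hmem l))))
  rw [IsLocalization.AtPrime.map_eq_maximalIdeal P S] at h1
  exact (IsLocalization.AtPrime.to_map_mem_maximal_iff S P (b i)).1 h1

variable [IsLocalRing B] [IsNoetherianRing A] [IsNoetherianRing B] [IsLocalHom (algebraMap A B)]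

/-- **Flatness from the maximal points of a reduced closed fibre.** -/
theorem flat_of_flat_at_minimal (hred : ((𝔪).map (algebraMap A B)).IsRadical)
    (h : ∀ (P : Ideal B) (hP : P ∈ ((𝔪).map (algebraMap A B)).minimalPrimes),
      haveI : P.IsPrime := hP.1.1
      Module.Flat A (Localization.AtPrime P)) : Module.Flat A B := by
  classical
  refine flat_of_mulMap_injective B ?_
  rw [← LinearMap.ker_eq_bot, LinearMap.ker_eq_bot']
  intro z hz
  let T : ℕ → Submodule A (𝔪 ⊗[A] B) := fun n =>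
    Submodule.span A {w | ∃ (a : 𝔪) (b : B), (a : A) ∈ 𝔪 ^ n ∧ a ⊗ₜ b = w}
  have hT : ∀ n, z ∈ T (n + 1) := by
    intro n
    induction n with
    | zero =>
      clear hz
      induction z using TensorProduct.induction_on with
      | zero => exact zero_mem _
      | tmul a b => exact Submodule.subset_span ⟨a, b, by simp, rfl⟩
      | add x y hx hy => exact add_mem hx hy
    | succ n ih =>
      obtain ⟨r, a, ha, hind⟩ := exists_minimal_generators (IsNoetherian.noetherian (𝔪 ^ (n + 1)))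
      have ham : ∀ i, a i ∈ 𝔪 := fun i =>
        Ideal.pow_le_self (Nat.succ_ne_zero n) (ha ▸ Ideal.subset_span ⟨i, rfl⟩)
      let φ : (Fin r → B) →ₗ[A] 𝔪 ⊗[A] B :=
        ∑ i, (TensorProduct.mk A 𝔪 B ⟨a i, ham i⟩).comp (LinearMap.proj i)
      have hφ : ∀ v, φ v = ∑ i, (⟨a i, ham i⟩ : 𝔪) ⊗ₜ[A] v i := fun v => by simp [φ]
      obtain ⟨b, hb⟩ : z ∈ LinearMap.range φ := by
        refine (Submodule.span_le.2 ?_ : T (n + 1) ≤ _) ih
        rintro _ ⟨x, y, hx, rfl⟩
        obtain ⟨c, hc⟩ := Ideal.mem_span_range_iff_exists_fun.1 (ha.ge hx)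
        refine ⟨fun i => c i • y, ?_⟩
        rw [hφ]
        have hx' : x = ∑ i, c i • (⟨a i, ham i⟩ : 𝔪) := Subtype.ext (by simp [← hc])
        simp only [hx', sum_tmul, smul_tmul]
      rw [hφ] at hb
      have hsum : ∑ i, a i • b i = 0 := by
        rw [← hz, ← hb]; simp
      have hbm : ∀ i, b i ∈ (𝔪).map (algebraMap A B) := fun i => by
        rw [← hred.radical, Ideal.radical_eq_sInf]
        refine Ideal.mem_sInf.2 fun {P} hP => ?_
        obtain ⟨hP, hPp⟩ := hP
        obtain ⟨Q, hQ, hQP⟩ := Ideal.exists_minimalPrimes_le hP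
        haveI : Q.IsPrime := hQ.1.1
        refine hQP (@mem_of_flat_at _ _ _ _ _ _ _ a _ (IsNoetherian.noetherian (𝔪 * 𝔪 ^ (n + 1))) hind b ?_ Q _ hQ.1.2
          (Localization.AtPrime Q) _ _ _ _ _ _ (h Q hQ) i)
        rw [hsum]; exact zero_mem _
      rw [← hb]
      refine sum_mem fun i _ => ?_
      suffices ∀ s : B, (⟨a i, ham i⟩ : 𝔪) ⊗ₜ[A] (s * b i) ∈ T (n + 1 + 1) by simpa using this 1
      refine Submodule.span_induction (p := fun x _ => ∀ s : B, (⟨a i, ham i⟩ : 𝔪) ⊗ₜ[A] (s * x) ∈ T (n + 1 + 1))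
        ?_ (fun s => by simp) (fun x y _ _ hx hy s => by rw [mul_add, tmul_add]; exact add_mem (hx s) (hy s))
        (fun t x _ hx s => by rw [smul_eq_mul, ← mul_assoc]; exact hx _) (hbm i)
      rintro _ ⟨μ, hμ, rfl⟩ s
      refine Submodule.subset_span ⟨μ • ⟨a i, ham i⟩, s, ?_, ?_⟩
      · rw [pow_succ']
        exact Ideal.mul_mem_mul hμ (ha ▸ Ideal.subset_span ⟨i, rfl⟩)
      · rw [smul_tmul, Algebra.smul_def, mul_comm]
  haveI : Module.Finite B (B ⊗[A] 𝔪) := finite_tensor_ideal 𝔪 (IsNoetherian.noetherian 𝔪)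
  have h0 : ∀ j, TensorProduct.comm A 𝔪 B z ∈ ((𝔪) ^ j ⊔ ⊥) • (⊤ : Submodule A (B ⊗[A] 𝔪)) := by
    intro j
    rw [sup_bot_eq]
    refine (Submodule.span_le.2 ?_ : T (j + 1) ≤ Submodule.comap (TensorProduct.comm A 𝔪 B).toLinearMap
      ((𝔪) ^ j • ⊤)) (hT j)
    rintro _ ⟨⟨x, hxm⟩, y, hx, rfl⟩
    suffices ∃ h : x ∈ 𝔪, y ⊗ₜ[A] (⟨x, h⟩ : 𝔪) ∈ (𝔪) ^ j • (⊤ : Submodule A (B ⊗[A] 𝔪)) by
      obtain ⟨h, hy⟩ := this
      exact hy
    rw [pow_succ] at hx
    refine Submodule.mul_induction_on (C := fun x => ∃ h : x ∈ 𝔪, y ⊗ₜ[A] (⟨x, h⟩ : 𝔪) ∈ (𝔪) ^ j • (⊤ : Submodule A (B ⊗[A] 𝔪))) hx (fun p hp q hq => ⟨Ideal.mul_mem_left _ p hq, ?_⟩)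
      (fun u v ⟨hu, hu'⟩ ⟨hv, hv'⟩ => ⟨add_mem hu hv, ?_⟩)
    · rw [show (⟨p * q, Ideal.mul_mem_left _ p hq⟩ : 𝔪) = p • ⟨q, hq⟩ from Subtype.ext rfl, tmul_smul]
      exact Submodule.smul_mem_smul hp trivial
    · rw [show (⟨u + v, add_mem hu hv⟩ : 𝔪) = ⟨u, hu⟩ + ⟨v, hv⟩ from rfl, tmul_add]
      exact add_mem hu' hv'
  simpa using mem_smul_of_forall_mem_pow_sup (S := B) ⊥ h0

end Groth.Agent.UOFlat
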