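import Groth.Agent.UOFlat.FibreField
import Groth.Agent.UOFlat.Reduced

/-!
# Flatness of the local homomorphism
-/

set_option autoImplicit false
set_option linter.style.haveILetI false
universe u
open TensorProduct

namespace Groth.Agent.UOFlat
open GeomRedAt (RingGR)

variable {A B : Type u} [CommRing A] [CommRing B] [Algebra A B]

/-- Flatness at a maximal point of the fibre, phrased with geometric reducedness. -/
theorem flat_atPrime_of_ringGR [_root_.IsReduced A] [Algebra.FiniteType A B] (P : Ideal B) [P.IsPrime]
    (h : RingGR A P) (hmin : ∀ Q : Ideal B, Q.IsPrime → Q ≤ P → Q.under A = P.under A → Q = P)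
    (H : ∀ (V : Type u) [CommRing V] [IsDomain V] [Algebra A V] (P' : PrimeSpectrum (V ⊗[A] B)),
      P'.asIdeal.comap (Algebra.TensorProduct.includeRight : B →ₐ[A] V ⊗[A] B).toRingHom = P →
      ∃ Q', Q'.IsPrime ∧ Q' ≤ P'.asIdeal ∧ Q'.comap (algebraMap V (V ⊗[A] B)) = ⊥) :
    Module.Flat A (Localization.AtPrime P) := by
  let φ : (P.under A).ResidueField →+* P.ResidueField := Ideal.ResidueField.map (P.under A) P (algebraMap A B) rfl
  letI := φ.toAlgebra
  haveI : IsScalarTower A (P.under A).ResidueField P.ResidueField := IsScalarTower.of_algebraMap_eq fun a =>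
    ((Ideal.ResidueField.map_algebraMap _ _ _ rfl a).trans
      (IsScalarTower.algebraMap_apply A B P.ResidueField a).symm).symm
  have hfib := map_eq_maximalIdeal_of_ringGR P h hmin
  haveI := formallySmooth_residueField_of_ringGR P h hfib
  exact flat_atPrime_of_univOpen P hfib H

/-- Flatness of the local homomorphism from flatness at the maximal points of a geometrically reduced fibre. -/
theorem flat_localRingHom_of_minimal [IsNoetherianRing A] [Algebra.FiniteType A B]
    (n : Ideal B) [n.IsPrime] (p : Ideal A) [p.IsPrime] (hp : p = n.comap (algebraMap A B)) (hGR : RingGR A n)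
    (H : ∀ (P : Ideal B) [P.IsPrime], P ≤ n → P.under A = p →
      (∀ Q : Ideal B, Q.IsPrime → Q ≤ P → Q.under A = P.under A → Q = P) →
      Module.Flat A (Localization.AtPrime P)) :
    (Localization.localRingHom p n (algebraMap A B) hp).Flat := by
  haveI : n.LiesOver p := ⟨hp⟩
  letI := Localization.AtPrime.algebraOfLiesOver p n
  let R := Localization.AtPrime p
  let S := Localization.AtPrime n
  haveI : IsNoetherianRing B := Algebra.FiniteType.isNoetherianRing A B
  haveI : IsNoetherianRing R := IsLocalization.isNoetherianRing p.primeCompl R inferInstance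
  haveI : IsNoetherianRing S := IsLocalization.isNoetherianRing n.primeCompl S inferInstance
  haveI : IsLocalHom (algebraMap R S) := Localization.isLocalHom_localRingHom p n (algebraMap A B) hp
  show Module.Flat R S
  have hI : (IsLocalRing.maximalIdeal R).map (algebraMap R S) = p.map (algebraMap A S) := by
    rw [← IsLocalization.AtPrime.map_eq_maximalIdeal p R, Ideal.map_map, ← IsScalarTower.algebraMap_eq]
  refine flat_of_flat_at_minimal ?_ ?_
  · rw [hI, hp]
    exact map_isRadical_of_ringGR n hGR
  intro P' hP'
  rw [hI] at hP'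
  haveI : P'.IsPrime := hP'.1.1
  let P := P'.comap (algebraMap B S)
  have hPn : P ≤ n := (Ideal.comap_mono (IsLocalRing.le_maximalIdeal hP'.1.1.ne_top)).trans
    (IsLocalization.AtPrime.comap_maximalIdeal S n).le
  have hPp : P.under A = p := le_antisymm ((Ideal.comap_mono hPn).trans hp.ge) fun a ha => by
    show algebraMap B S (algebraMap A B a) ∈ P'
    rw [← IsScalarTower.algebraMap_apply]
    exact hP'.1.2 (Ideal.mem_map_of_mem _ ha)
  have hmin : ∀ Q : Ideal B, Q.IsPrime → Q ≤ P → Q.under A = P.under A → Q = P := by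
    intro Q hQ hQP hQp
    have hd : Disjoint (n.primeCompl : Set B) Q :=
      Set.disjoint_left.2 fun x hx hxQ => hx (hPn (hQP hxQ))
    have hQS : (Q.map (algebraMap B S)).comap (algebraMap B S) = Q :=
      IsLocalization.comap_map_of_isPrime_disjoint n.primeCompl S hQ hd
    have h1 : Q.map (algebraMap B S) ≤ P' := Ideal.map_le_iff_le_comap.mpr hQP
    refine le_antisymm hQP ((Ideal.comap_mono (hP'.2 ⟨?_, ?_⟩ h1)).trans hQS.le)
    · exact IsLocalization.isPrime_of_isPrime_disjoint n.primeCompl S Q hQ hd
    · rw [← hPp, ← hQp, IsScalarTower.algebraMap_eq A B S, ← Ideal.map_map]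
      exact Ideal.map_mono (Ideal.map_comap_le)
  have hflat := H P hPn hPp hmin
  let T := Localization.AtPrime P'
  haveI : IsLocalization.AtPrime T P :=
    IsLocalization.isLocalization_isLocalization_atPrime_isLocalization n.primeCompl T P'
  let e : Localization.AtPrime P ≃ₐ[B] T := IsLocalization.algEquiv P.primeCompl _ _
  refine (Module.flat_iff_of_isLocalization R p.primeCompl T).mpr ?_
  exact Module.Flat.of_linearEquiv (e.restrictScalars A).symm.toLinearEquiv

/-- **Flatness from universal openness at the maximal points of a geometrically reduced fibre.** -/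
theorem flat_localRingHom [IsNoetherianRing A] [_root_.IsReduced A] [Algebra.FiniteType A B]
    (n : Ideal B) [n.IsPrime] (p : Ideal A) [p.IsPrime] (hp : p = n.comap (algebraMap A B))
    (hGR : ∀ P : Ideal B, P.IsPrime → P ≤ n → P.under A = p → RingGR A P)
    (H : ∀ P : Ideal B, P.IsPrime → P ≤ n → P.under A = p →
      (∀ Q : Ideal B, Q.IsPrime → Q ≤ P → Q.under A = P.under A → Q = P) →
      ∀ (V : Type u) [CommRing V] [IsDomain V] [Algebra A V] (P' : PrimeSpectrum (V ⊗[A] B)),
      P'.asIdeal.comap (Algebra.TensorProduct.includeRight : B →ₐ[A] V ⊗[A] B).toRingHom = P →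
      ∃ Q', Q'.IsPrime ∧ Q' ≤ P'.asIdeal ∧ Q'.comap (algebraMap V (V ⊗[A] B)) = ⊥) :
    (Localization.localRingHom p n (algebraMap A B) hp).Flat :=
  flat_localRingHom_of_minimal n p hp (hGR n inferInstance le_rfl hp.symm) fun P _ hPn hPp hmin =>
    flat_atPrime_of_ringGR P (hGR P inferInstance hPn hPp) hmin (H P inferInstance hPn hPp hmin)

end Groth.Agent.UOFlat
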